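import Mathlib
import Cfsg.Agent.Lib.TwoGroups.RankOne
import Cfsg.Agent.Lib.Transfer.Tate

/-!
Involutory automorphisms of finite 2-groups with few fixed points: invariant subgroups, cyclic
subgroups and their automorphisms, self-centralizing normal invariant abelian subgroups.
-/

set_option autoImplicit false
set_option linter.style.haveILetI false
set_option linter.unusedSectionVars false

namespace CfsgLib.CyclicFourFix

open Subgroup

variable {T : Type*} [Group T]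

/-- `H` is invariant under `φ`. -/
def Inv (φ : T ≃* T) (H : Subgroup T) : Prop := ∀ x ∈ H, φ x ∈ H

theorem Inv.sup {φ : T ≃* T} {H K : Subgroup T} (hH : Inv φ H) (hK : Inv φ K) : Inv φ (H ⊔ K) := by
  have h : H ⊔ K ≤ (H ⊔ K).comap φ.toMonoidHom :=
    sup_le (fun x hx => le_sup_left (α := Subgroup T) (hH x hx))
      (fun x hx => le_sup_right (α := Subgroup T) (hK x hx))
  exact fun x hx => h hx

theorem inv_zpowers {φ : T ≃* T} {x : T} (h : φ x ∈ zpowers x) : Inv φ (zpowers x) := by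
  have h' : zpowers x ≤ (zpowers x).comap φ.toMonoidHom := zpowers_le.2 h
  exact fun y hy => h' hy

theorem inv_centralizer {φ : T ≃* T} (hφ : ∀ x, φ (φ x) = x) {H : Subgroup T} (hH : Inv φ H) :
    Inv φ (centralizer (H : Set T)) := by
  intro c hc
  rw [mem_centralizer_iff] at hc ⊢
  intro h hh
  have := congrArg φ (hc (φ h) (hH h hh))
  rwa [map_mul, map_mul, hφ] at this

/-- An element of a group is either outside a subgroup with its square inside, or has a power that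
is. -/
theorem exists_sq_mem [Finite T] (hT : IsPGroup 2 T) {H : Subgroup T} {x : T} (hx : x ∉ H) :
    ∃ k : ℕ, x ^ 2 ^ k ∉ H ∧ (x ^ 2 ^ k) ^ 2 ∈ H := by
  obtain ⟨m, hm⟩ := hT x
  classical
  have hex : ∃ i, x ^ 2 ^ i ∈ H := ⟨m, by rw [hm]; exact one_mem _⟩
  rcases hj : Nat.find hex with _ | j
  · have := Nat.find_spec hex
    rw [hj, pow_zero, pow_one] at this
    exact absurd this hx
  refine ⟨j, Nat.find_min hex (by omega), ?_⟩
  rw [← pow_mul, ← pow_succ, ← hj]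
  exact Nat.find_spec hex

/-- A nontrivial invariant subgroup of a 2-group contains a nontrivial fixed element. -/
theorem exists_fixed [Finite T] (hT : IsPGroup 2 T) (φ : T ≃* T) (hφ : ∀ x, φ (φ x) = x)
    (H : Subgroup T) (hH : Inv φ H) (hne : H ≠ ⊥) : ∃ x ∈ H, x ≠ 1 ∧ φ x = x := by
  haveI : Nontrivial H := (Subgroup.nontrivial_iff_ne_bot H).2 hne
  haveI := (hT.to_subgroup H).center_nontrivial
  obtain ⟨⟨⟨c, hcH⟩, hcZ⟩, hne'⟩ := exists_ne (1 : center H)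
  have hc1 : c ≠ 1 := fun h => hne' (Subtype.ext (Subtype.ext h))
  have hcomm : ∀ a ∈ H, a * c = c * a := fun a ha =>
    congrArg Subtype.val (mem_center_iff.1 hcZ ⟨a, ha⟩)
  by_cases h : c * φ c = 1
  · obtain ⟨k, hk1, hk2⟩ := exists_sq_mem hT (H := (⊥ : Subgroup T)) (by simpa using hc1)
    rw [mem_bot] at hk1 hk2
    refine ⟨c ^ 2 ^ k, pow_mem hcH _, hk1, ?_⟩
    rw [map_pow, eq_inv_of_mul_eq_one_right h, inv_pow]
    exact inv_eq_of_mul_eq_one_right (by rw [← sq]; exact hk2)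
  · refine ⟨c * φ c, mul_mem hcH (hH c hcH), h, ?_⟩
    rw [map_mul, hφ]
    exact hcomm _ (hH c hcH)

/-- The map `c ↦ φ c / c` on an invariant commutative subgroup. -/
def defect {φ : T ≃* T} {B : Subgroup T} (hc : ∀ a ∈ B, ∀ b ∈ B, a * b = b * a) (hB : Inv φ B) :
    B →* B where
  toFun c := ⟨φ c * (c : T)⁻¹, mul_mem (hB c c.2) (inv_mem c.2)⟩
  map_one' := by ext; simp
  map_mul' a b := by
    ext
    simp only [Subgroup.coe_mul, map_mul, mul_inv_rev]
    have hd : φ (b : T) * (b : T)⁻¹ ∈ B := mul_mem (hB b b.2) (inv_mem b.2)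
    calc φ (a : T) * φ (b : T) * ((b : T)⁻¹ * (a : T)⁻¹)
        = φ (a : T) * ((φ (b : T) * (b : T)⁻¹) * (a : T)⁻¹) := by simp only [mul_assoc]
      _ = φ (a : T) * ((a : T)⁻¹ * (φ (b : T) * (b : T)⁻¹)) := by rw [hc _ hd _ (inv_mem a.2)]
      _ = φ (a : T) * (a : T)⁻¹ * (φ (b : T) * (b : T)⁻¹) := by simp only [mul_assoc]

/-- An invariant elementary abelian subgroup whose fixed points are among `1, z` has order at most
four. -/
theorem card_le_four [Finite T] (φ : T ≃* T) (hφ : ∀ x, φ (φ x) = x) (B : Subgroup T)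
    (hc : ∀ a ∈ B, ∀ b ∈ B, a * b = b * a) (hB : Inv φ B) (h2 : ∀ a ∈ B, a ^ 2 = 1) (z : T)
    (hfix : ∀ a ∈ B, φ a = a → a = 1 ∨ a = z) : Nat.card B ≤ 4 := by
  set f := defect hc hB with hf
  have hker : ∀ b : B, f b = 1 → (b : T) = 1 ∨ (b : T) = z := fun b hb => hfix b b.2
    (mul_inv_eq_one.1 (congrArg Subtype.val hb))
  have hran : ∀ b ∈ f.range, (b : T) = 1 ∨ (b : T) = z := by
    rintro b ⟨a, rfl⟩
    refine hfix _ (f a).2 ?_
    show φ (φ a * (a : T)⁻¹) = φ a * (a : T)⁻¹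
    rw [map_mul, map_inv, hφ]
    have h1 : (φ a * (a : T)⁻¹)⁻¹ = φ a * (a : T)⁻¹ := inv_eq_of_mul_eq_one_right (by
      rw [← sq]; exact h2 _ (f a).2)
    rw [mul_inv_rev, inv_inv] at h1
    exact h1
  have hle : ∀ S : Subgroup B, (∀ b ∈ S, (b : T) = 1 ∨ (b : T) = z) → Nat.card S ≤ 2 := by
    intro S hS
    classical
    let j : S → Bool := fun b => decide (((b : B) : T) = 1)
    have hj : Function.Injective j := by
      intro a b hab
      apply Subtype.ext; apply Subtype.ext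
      simp only [j, decide_eq_decide] at hab
      rcases hS _ a.2 with ha | ha
      · rw [ha, hab.1 ha]
      · rcases hS _ b.2 with hb | hb
        · rw [hb, hab.2 hb]
        · rw [ha, hb]
    simpa using Nat.card_le_card_of_injective j hj
  rw [← f.ker.card_mul_index, Subgroup.index_ker]
  calc Nat.card f.ker * Nat.card f.range ≤ 2 * 2 :=
        Nat.mul_le_mul (hle _ fun b hb => hker b hb) (hle _ hran)
    _ = 4 := rfl

/-! ### Cyclic 2-groups -/

section Cyc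
variable {y : T} {n : ℕ}

theorem zpow_eq_one_iff_dvd (hy : orderOf y = 2 ^ n) (i : ℤ) :
    y ^ i = 1 ↔ (2 : ℤ) ^ n ∣ i := by
  rw [← orderOf_dvd_iff_zpow_eq_one, hy]; push_cast; rfl

theorem zpow_sq_eq_one (hy : orderOf y = 2 ^ n) {i : ℤ} (h : (y ^ i) ^ 2 = 1) :
    y ^ i = 1 ∨ y ^ i = y ^ 2 ^ (n - 1) := by
  rcases n with _ | n
  · left
    rw [pow_zero, orderOf_eq_one_iff] at hy
    rw [hy, one_zpow]
  rw [← zpow_natCast, ← zpow_mul, zpow_eq_one_iff_dvd hy] at h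
  obtain ⟨k, hk⟩ : (2 : ℤ) ^ n ∣ i := by
    rw [pow_succ] at h
    exact (mul_dvd_mul_iff_right (by norm_num : (2 : ℤ) ≠ 0)).1 (by simpa using h)
  rcases Int.even_or_odd k with ⟨l, hl⟩ | ⟨l, hl⟩
  · left
    rw [zpow_eq_one_iff_dvd hy]
    exact ⟨l, by rw [hk, hl, pow_succ]; ring⟩
  · right
    rw [← zpow_natCast y (2 ^ (n + 1 - 1)), Nat.add_sub_cancel]
    rw [← mul_inv_eq_one, ← zpow_neg, ← zpow_add, zpow_eq_one_iff_dvd hy]
    exact ⟨l, by rw [hk, hl, pow_succ]; push_cast; ring⟩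

/-- An automorphism of a cyclic group of order `2 ^ n` (`2 ≤ n`) of exponent `m` with `m ^ 2 = 1`. -/
theorem involutive_exponent (hy : orderOf y = 2 ^ n) (hn : 2 ≤ n) {m : ℤ}
    (h : y ^ (m * m) = y) :
    (Odd m) ∧ ((4 : ℤ) ∣ m - 1 → y ^ m = y ∨ y ^ m = y * y ^ 2 ^ (n - 1)) ∧
      (¬ (4 : ℤ) ∣ m - 1 → y ^ m = y⁻¹ ∨ y ^ m = y⁻¹ * y ^ 2 ^ (n - 1)) := by
  have hd : (2 : ℤ) ^ n ∣ (m - 1) * (m + 1) := by
    rw [← zpow_eq_one_iff_dvd hy, show (m - 1) * (m + 1) = m * m - 1 by ring, zpow_sub, h,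
      zpow_one, mul_inv_cancel]
  have h4 : (4 : ℤ) ∣ (m - 1) * (m + 1) :=
    (pow_dvd_pow (2 : ℤ) hn).trans hd
  have hodd : Odd m := by
    rcases Int.even_or_odd m with ⟨k, rfl⟩ | h'
    · exfalso
      have : (2 : ℤ) ∣ (k + k - 1) * (k + k + 1) := (by norm_num : (2 : ℤ) ∣ 4).trans h4
      rcases Int.prime_two.dvd_or_dvd this with h' | h' <;> omega
    · exact h'
  have half : ∀ a b : ℤ, (2 : ℤ) ^ n ∣ a * b → (4 : ℤ) ∣ b - 2 → (y ^ a) ^ 2 = 1 := by
    intro a b hab hb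
    obtain ⟨k, hk⟩ := hb
    rw [show b = 2 * (2 * k + 1) by omega, ← mul_assoc] at hab
    have : IsCoprime ((2 : ℤ) ^ n) (2 * k + 1) :=
      (IsCoprime.pow_left ⟨-k, 1, by ring⟩)
    rw [← zpow_natCast, ← zpow_mul, zpow_eq_one_iff_dvd hy]
    simpa using this.dvd_of_dvd_mul_right hab
  refine ⟨hodd, fun h1 => ?_, fun h1 => ?_⟩
  · rcases zpow_sq_eq_one hy (half (m - 1) (m + 1) hd (by omega)) with h' | h'
    · left; rwa [zpow_sub, zpow_one, mul_inv_eq_one] at h'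
    · right; rw [← h', ← zpow_one_add, add_sub_cancel]
  · obtain ⟨k, hk⟩ := hodd
    rcases zpow_sq_eq_one hy (half (m + 1) (m - 1) (by rwa [mul_comm]) (by omega)) with h' | h'
    · left; rw [zpow_add, zpow_one, mul_eq_one_iff_eq_inv] at h'; exact h'
    · right; rw [← h', ← zpow_neg_one, ← zpow_add]; congr 1; ring

end Cyc

/-! ### Self-centralizing invariant normal abelian subgroups -/

theorem exists_selfCentralizing [Finite T] (hT : IsPGroup 2 T) (φ : T ≃* T)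
    (hφ : ∀ x, φ (φ x) = x) :
    ∃ Y : Subgroup T, Y.Normal ∧ Inv φ Y ∧ (∀ a ∈ Y, ∀ b ∈ Y, a * b = b * a) ∧
      centralizer (Y : Set T) ≤ Y := by
  obtain ⟨Y, hYmem, hmax⟩ := (Set.toFinite {Y : Subgroup T | Y.Normal ∧ Inv φ Y ∧
      ∀ a ∈ Y, ∀ b ∈ Y, a * b = b * a}).exists_maximal ⟨⊥, inferInstance, fun x hx => by
        rw [mem_bot] at hx ⊢; rw [hx, map_one], fun a ha b hb => by
        rw [mem_bot] at ha hb; simp [ha, hb]⟩
  obtain ⟨hN, hI, hc⟩ := hYmem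
  refine ⟨Y, hN, hI, hc, ?_⟩
  haveI := hN
  by_contra hle
  set C := centralizer (Y : Set T) with hC
  set C' := C.map (QuotientGroup.mk' Y) with hC'
  haveI hC'n : C'.Normal := Subgroup.Normal.map inferInstance _ (QuotientGroup.mk'_surjective Y)
  have hC'ne : C' ≠ ⊥ := fun h => hle (by rwa [Subgroup.map_eq_bot_iff, QuotientGroup.ker_mk'] at h)
  haveI : Nontrivial C' := (Subgroup.nontrivial_iff_ne_bot C').2 hC'ne
  set D := (C' ⊓ center (T ⧸ Y)).comap (QuotientGroup.mk' Y) with hD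
  have hDne : ∃ d ∈ D, d ∉ Y := by
    obtain ⟨q, hq, hq1⟩ :=
      CfsgLib.Transfer.exists_mem_inf_center_ne_one (hT.to_quotient Y) (M := C') hC'ne
    obtain ⟨d, rfl⟩ := QuotientGroup.mk'_surjective Y q
    exact ⟨d, hq, fun h => hq1 ((QuotientGroup.eq_one_iff d).2 h)⟩
  have hDC : ∀ d ∈ D, d ∈ C := by
    intro d hd
    obtain ⟨c, hcC, hcd⟩ := hd.1
    have : c⁻¹ * d ∈ Y := QuotientGroup.eq.1 hcd
    have hYC : Y ≤ C := fun a ha => mem_centralizer_iff.2 fun b hb => hc b hb a ha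
    simpa using mul_mem hcC (hYC this)
  have hDcom : ∀ d ∈ D, ∀ g, g * d * g⁻¹ * d⁻¹ ∈ Y := by
    intro d hd g
    rw [← QuotientGroup.eq_one_iff]
    have h1 : (g : T ⧸ Y) * (d : T ⧸ Y) = (d : T ⧸ Y) * (g : T ⧸ Y) := mem_center_iff.1 hd.2 _
    rw [QuotientGroup.mk_mul, QuotientGroup.mk_mul, QuotientGroup.mk_mul, QuotientGroup.mk_inv,
      QuotientGroup.mk_inv, h1]
    group
  have hDinv : ∀ d ∈ D, φ d ∈ D := by
    intro d hd
    refine ⟨⟨φ d, inv_centralizer hφ hI d (hDC d hd), rfl⟩, ?_⟩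
    refine mem_center_iff.2 fun q => ?_
    obtain ⟨g, rfl⟩ := QuotientGroup.mk'_surjective Y q
    have h1 := hI _ (hDcom d hd (φ g))
    simp only [map_mul, map_inv, hφ] at h1
    have h2 : ((g * φ d * g⁻¹ * (φ d)⁻¹ : T) : T ⧸ Y) = 1 := (QuotientGroup.eq_one_iff _).2 h1
    simp only [QuotientGroup.mk_mul, QuotientGroup.mk_inv] at h2
    simp only [QuotientGroup.mk'_apply]
    rw [mul_inv_eq_one, mul_inv_eq_iff_eq_mul] at h2
    exact h2
  obtain ⟨d, hd, hdY⟩ := hDne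
  obtain ⟨c, hcD, hcY, hcφ⟩ : ∃ c ∈ D, c ∉ Y ∧ c⁻¹ * φ c ∈ Y := by
    by_cases h : d * φ d ∈ Y
    · obtain ⟨k, hk1, hk2⟩ := exists_sq_mem hT (H := Y) hdY
      refine ⟨d ^ 2 ^ k, pow_mem hd _, hk1, ?_⟩
      rw [← QuotientGroup.eq_one_iff] at h hk2 ⊢
      simp only [map_pow, QuotientGroup.mk_mul, QuotientGroup.mk_inv, QuotientGroup.mk_pow]
        at h hk2 ⊢
      rw [eq_inv_of_mul_eq_one_right h, inv_pow, ← mul_inv_rev, ← sq, hk2, inv_one]
    · refine ⟨d * φ d, mul_mem hd (hDinv d hd), h, ?_⟩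
      rw [← QuotientGroup.eq]
      rw [map_mul, hφ, QuotientGroup.mk_mul, QuotientGroup.mk_mul]
      exact (mem_center_iff.1 hd.2 _).symm
  have hzle : ∀ k : T, k ∈ zpowers c → ∀ a ∈ Y, a * k = k * a := fun k hk a ha =>
    mem_centralizer_iff.1 (zpowers_le.2 (hDC c hcD) hk) a ha
  have hbig : Y ⊔ zpowers c ∈ {Y : Subgroup T | Y.Normal ∧ Inv φ Y ∧
      ∀ a ∈ Y, ∀ b ∈ Y, a * b = b * a} := by
    refine ⟨⟨?_⟩, ?_, ?_⟩
    · intro x hx g
      have : Y ⊔ zpowers c ≤ (Y ⊔ zpowers c).comap (MulAut.conj g).toMonoidHom := by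
        refine sup_le (fun a ha => (le_sup_left : Y ≤ Y ⊔ zpowers c) (hN.conj_mem a ha g))
          (zpowers_le.2 ?_)
        show g * c * g⁻¹ ∈ Y ⊔ zpowers c
        have h1 : g * c * g⁻¹ * c⁻¹ ∈ Y ⊔ zpowers c :=
          le_sup_left (α := Subgroup T) (hDcom c hcD g)
        have h2 := mul_mem h1 (le_sup_right (α := Subgroup T) (mem_zpowers c))
        simpa using h2
      exact this hx
    · intro x hx
      have : Y ⊔ zpowers c ≤ (Y ⊔ zpowers c).comap φ.toMonoidHom := by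
        refine sup_le (fun a ha => (le_sup_left : Y ≤ Y ⊔ zpowers c) (hI a ha)) (zpowers_le.2 ?_)
        show φ c ∈ Y ⊔ zpowers c
        have h2 := mul_mem (le_sup_right (α := Subgroup T) (mem_zpowers c))
          (le_sup_left (α := Subgroup T) hcφ : c⁻¹ * φ c ∈ Y ⊔ zpowers c)
        simpa using h2
      exact this hx
    · intro a ha b hb
      obtain ⟨a1, ha1, k, hk, rfl⟩ := Subgroup.mem_sup_of_normal_left.1 ha
      obtain ⟨b1, hb1, l, hl, rfl⟩ := Subgroup.mem_sup_of_normal_left.1 hb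
      obtain ⟨i, rfl⟩ := hk
      obtain ⟨j, rfl⟩ := hl
      calc a1 * c ^ i * (b1 * c ^ j) = a1 * (c ^ i * b1) * c ^ j := by group
        _ = (a1 * b1) * (c ^ i * c ^ j) := by rw [← hzle _ ⟨i, rfl⟩ b1 hb1]; group
        _ = (b1 * a1) * (c ^ j * c ^ i) := by rw [hc a1 ha1 b1 hb1, ← zpow_add, ← zpow_add, add_comm]
        _ = b1 * (a1 * c ^ j) * c ^ i := by group
        _ = b1 * c ^ j * (a1 * c ^ i) := by rw [hzle _ ⟨j, rfl⟩ a1 ha1]; group
  exact hcY (hmax hbig le_sup_left (le_sup_right (α := Subgroup T) (mem_zpowers c)))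

end CfsgLib.CyclicFourFix
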