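import Mathlib
import Cfsg.Agent.S0205
import Cfsg.Agent.Lib.Signalizer.ZStarInst

/-!
Fusion and transfer tools: moving into a Sylow 2-subgroup of a centralizer, involutions that are
squares, central elements of perfect groups and isolated involutions.
-/

set_option autoImplicit false
set_option linter.style.haveILetI false
set_option linter.unusedSectionVars false

namespace CfsgLib.CyclicFourFix

open Subgroup
open scoped commutatorElement

universe u

variable {G : Type u} [Group G] [Finite G]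

/-- A 2-subgroup centralizing an element central in `S` is conjugate into `S` by an element
centralizing it. -/
theorem exists_conj_mem (S : Sylow 2 G) {z : G} (hzS : ∀ x ∈ (S : Subgroup G), Commute x z)
    {P : Subgroup G} (hP : IsPGroup 2 P) (hPz : ∀ x ∈ P, Commute x z) :
    ∃ h : G, Commute h z ∧ ∀ x ∈ P, h * x * h⁻¹ ∈ (S : Subgroup G) := by
  haveI : Fact (Nat.Prime 2) := ⟨Nat.prime_two⟩
  set C := centralizer ({z} : Set G) with hC
  have hSC : (S : Subgroup G) ≤ C := fun x hx => mem_centralizer_singleton_iff.2 (hzS x hx).eq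
  have hPC : P ≤ C := fun x hx => mem_centralizer_singleton_iff.2 (hPz x hx).eq
  obtain ⟨Q, hQ⟩ := (hP.comap_of_injective C.subtype C.subtype_injective).exists_le_sylow
  obtain ⟨h, hh⟩ := MulAction.exists_smul_eq C Q (S.subtype hSC)
  refine ⟨h, mem_centralizer_singleton_iff.1 h.2, fun x hx => ?_⟩
  have hxQ : (⟨x, hPC hx⟩ : C) ∈ (Q : Subgroup C) := hQ hx
  have : MulAut.conj h • (⟨x, hPC hx⟩ : C) ∈ ((S.subtype hSC : Sylow 2 C) : Subgroup C) := by
    rw [← hh, Sylow.coe_subgroup_smul]
    exact Subgroup.smul_mem_pointwise_smul _ _ _ hxQ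
  exact this

/-- If `z` is central in `S` and the only involution that is a square in `S`, no involution of `S`
centralizing an element with square `z` fuses with `z`. -/
theorem not_conj_of_squares (S : Sylow 2 G) {z u r : G} (hzS : ∀ x ∈ (S : Subgroup G), Commute x z)
    (hz1 : z ≠ 1) (hz2 : z ^ 2 = 1)
    (hsq : ∀ x ∈ (S : Subgroup G), (x ^ 2) ^ 2 = 1 → x ^ 2 ≠ 1 → x ^ 2 = z)
    (hrS : r ∈ (S : Subgroup G)) (hru : Commute r u) (hr : r ^ 2 = z) (huz : u ≠ z) (g : G) :
    g * u * g⁻¹ ≠ z := by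
  intro hg
  set r' := g * r * g⁻¹ with hr'
  have hr'z : Commute r' z := by
    rw [hr', ← hg]
    simpa [MulAut.conj_apply] using hru.map (MulAut.conj g).toMonoidHom
  have hr2 : IsPGroup 2 (zpowers r') := by
    rw [hr', show zpowers (g * r * g⁻¹) = (zpowers r).map (MulAut.conj g).toMonoidHom by
      rw [MonoidHom.map_zpowers]; rfl]
    exact ((S.isPGroup'.to_le (zpowers_le.2 hrS))).map _
  obtain ⟨h, hh, hmem⟩ := exists_conj_mem S hzS hr2 (fun x hx => by
    obtain ⟨i, rfl⟩ := hx; exact hr'z.zpow_left i)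
  have hx := hmem r' (mem_zpowers r')
  set k := h * g with hk
  have hkr : (h * r' * h⁻¹) ^ 2 = k * z * k⁻¹ := by
    rw [hr', conj_pow, conj_pow, hr, hk]; group
  have hkz := hsq _ hx (by rw [hkr, conj_pow, hz2, mul_one, mul_inv_cancel])
    (by rw [hkr, Ne, conj_eq_one_iff]; exact hz1)
  rw [hkr] at hkz
  have hku : k * u * k⁻¹ = z := by
    rw [hk, show h * g * u * (h * g)⁻¹ = h * (g * u * g⁻¹) * h⁻¹ by group, hg, hh.eq,
      mul_inv_cancel_right]
  exact huz (mul_left_cancel (mul_right_cancel (hku.trans hkz.symm)))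

/-- A central involution of a perfect group lies in the derived group of a Sylow 2-subgroup. -/
theorem mem_derived_of_central (hperf : commutator G = ⊤) (S : Sylow 2 G) {z : G}
    (hz : z ∈ center G) (hzS : z ∈ (S : Subgroup G)) (hz2 : z ^ 2 = 1) :
    z ∈ ⁅(S : Subgroup G), (S : Subgroup G)⁆ := by
  haveI : Fact (Nat.Prime 2) := ⟨Nat.prime_two⟩
  set ϕ : ↥(S : Subgroup G) →* Abelianization ↥(S : Subgroup G) := Abelianization.of
  have key : ∀ (k : ℕ) (g₀ : G), g₀⁻¹ * z ^ k * g₀ ∈ (S : Subgroup G) → g₀⁻¹ * z ^ k * g₀ = z ^ k :=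
    fun k g₀ _ => by rw [mul_assoc, ← mem_center_iff.1 (pow_mem hz k) g₀, inv_mul_cancel_left]
  have h1 := MonoidHom.transfer_eq_pow ϕ z key
  have h0 : MonoidHom.transfer ϕ z = 1 :=
    Abelianization.commutator_subset_ker _ (hperf ▸ mem_top z)
  rw [h0] at h1
  have hodd : Odd (S : Subgroup G).index := Nat.not_even_iff_odd.1 fun he =>
    S.not_dvd_index he.two_dvd
  have hzi : z ^ (S : Subgroup G).index = z := by
    obtain ⟨e, he⟩ := hodd
    rw [he, pow_succ, pow_mul, hz2, one_pow, one_mul]
  have hmem : (⟨z, hzS⟩ : ↥(S : Subgroup G)) ∈ commutator ↥(S : Subgroup G) := by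
    have := (QuotientGroup.eq_one_iff _).1 h1.symm
    convert this using 1
    exact Subtype.ext hzi.symm
  have := mem_map_of_mem (S : Subgroup G).subtype hmem
  rwa [map_subtype_commutator] at this

/-- The derived group of a group with a commutative normal subgroup `B` of index at most two, by a
single cyclic subgroup. -/
theorem commutator_le_zpowers {T : Type*} [Group T] {B : Subgroup T} {g c : T}
    (hB : ∀ a ∈ B, ∀ b ∈ B, a * b = b * a) (hcov : ∀ x, x ∈ B ∨ g⁻¹ * x ∈ B) (hcB : c ∈ B)
    (hgc : g * c * g⁻¹ ∈ zpowers c) (hgb : ∀ b ∈ B, g * b * g⁻¹ * b⁻¹ ∈ zpowers c) :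
    ⁅(⊤ : Subgroup T), ⊤⁆ ≤ zpowers c := by
  have hc : ∀ b ∈ B, ∀ d ∈ zpowers c, b * d * b⁻¹ = d := by
    intro b hb d hd
    rw [hB b hb d (zpowers_le.2 hcB hd), mul_inv_cancel_right]
  have hg' : ∀ d ∈ zpowers c, g * d * g⁻¹ ∈ zpowers c := by
    rintro _ ⟨i, rfl⟩
    simp only
    rw [← conj_zpow]
    exact zpow_mem hgc i
  have hconj : ∀ x, ∀ d ∈ zpowers c, x * d * x⁻¹ ∈ zpowers c := by
    intro x d hd
    rcases hcov x with hx | hx
    · rw [hc x hx d hd]; exact hd
    · rw [show x * d * x⁻¹ = g * ((g⁻¹ * x) * d * (g⁻¹ * x)⁻¹) * g⁻¹ by group, hc _ hx d hd]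
      exact hg' d hd
  haveI : (zpowers c).Normal := ⟨fun d hd x => hconj x d hd⟩
  set q := QuotientGroup.mk' (zpowers c)
  have hgB : ∀ b ∈ B, Commute (q g) (q b) := by
    intro b hb
    have := (QuotientGroup.eq_one_iff (N := zpowers c) _).2 (hgb b hb)
    show q g * q b = q b * q g
    rw [← mul_inv_eq_iff_eq_mul, ← mul_inv_eq_one]
    simpa [q] using this
  have hbb : ∀ a ∈ B, ∀ b ∈ B, Commute (q a) (q b) := fun a ha b hb => by
    show q a * q b = q b * q a
    rw [← map_mul, ← map_mul, hB a ha b hb]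
  have hgall : ∀ x, Commute (q g) (q x) := by
    intro x
    rcases hcov x with hx | hx
    · exact hgB x hx
    · have := (Commute.refl (q g)).mul_right (hgB _ hx)
      rwa [← map_mul, mul_inv_cancel_left] at this
  have hball : ∀ b ∈ B, ∀ x, Commute (q b) (q x) := by
    intro b hb x
    rcases hcov x with hx | hx
    · exact hbb b hb x hx
    · have := (hgB b hb).symm.mul_right (hbb b hb _ hx)
      rwa [← map_mul, mul_inv_cancel_left] at this
  rw [Subgroup.commutator_le]
  intro x _ y _
  rw [← QuotientGroup.eq_one_iff]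
  show q ⁅x, y⁆ = 1
  rw [map_commutatorElement, commutatorElement_eq_one_iff_commute]
  rcases hcov x with hx | hx
  · exact hball x hx y
  · have := (hgall y).mul_left (hball _ hx y)
    rwa [← map_mul, mul_inv_cancel_left] at this

/-- An element of a perfect group whose commutators are central is central. -/
theorem mem_center_of_commutators {G : Type*} [Group G] (hperf : commutator G = ⊤) {z : G}
    (hz : ∀ g : G, z * g * z⁻¹ * g⁻¹ ∈ center G) : z ∈ center G := by
  let f : G →* center G :=
    { toFun := fun g => ⟨z * g * z⁻¹ * g⁻¹, hz g⟩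
      map_one' := by ext; simp
      map_mul' := fun a b => by
        ext
        simp only [Subgroup.coe_mul]
        have hb := mem_center_iff.1 (hz b) a
        calc z * (a * b) * z⁻¹ * (a * b)⁻¹
            = z * a * z⁻¹ * (z * b * z⁻¹ * b⁻¹) * a⁻¹ := by group
          _ = z * a * z⁻¹ * (a⁻¹ * (a * (z * b * z⁻¹ * b⁻¹))) * a⁻¹ := by rw [inv_mul_cancel_left]
          _ = z * a * z⁻¹ * (a⁻¹ * ((z * b * z⁻¹ * b⁻¹) * a)) * a⁻¹ := by rw [hb]
          _ = _ := by group }
  letI : CommGroup (center G) := { (inferInstance : Group (center G)) with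
    mul_comm := fun a b => Subtype.ext (mem_center_iff.1 b.2 a) }
  refine mem_center_iff.2 fun g => ?_
  have h1 : f g = 1 := Abelianization.commutator_subset_ker f (hperf ▸ mem_top g)
  have h2 : z * g * z⁻¹ * g⁻¹ = 1 := congrArg Subtype.val h1
  rw [mul_inv_eq_one, mul_inv_eq_iff_eq_mul] at h2
  exact h2.symm

/-- An isolated involution of a perfect group with central solvable normal subgroups is central. -/
theorem mem_center_of_isolated (hperf : commutator G = ⊤)
    (hsol : ∀ N : Subgroup G, N.Normal → Group.IsSolvable N → N ≤ center G) (S : Sylow 2 G) {z : G}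
    (hz : orderOf z = 2) (hzS : z ∈ (S : Subgroup G))
    (hiso : ∀ g : G, g * z * g⁻¹ ∈ (S : Subgroup G) → g * z * g⁻¹ = z) : z ∈ center G := by
  obtain ⟨N, hN, hodd, hc⟩ := CfsgLib.Signalizer.zStarTheorem.{u} G S z hz hzS hiso
  exact mem_center_of_commutators hperf fun g =>
    hsol N hN (Cfsg.Agent.S0205.result hodd) (hc g)

/-- An involution isolated modulo a central involution. -/
theorem mem_center_of_isolated_mod (hperf : commutator G = ⊤)
    (hsol : ∀ N : Subgroup G, N.Normal → Group.IsSolvable N → N ≤ center G) (S : Sylow 2 G) {z u : G}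
    (hz : z ∈ center G) (hz2 : z ^ 2 = 1) (hzS : z ∈ (S : Subgroup G)) (hu2 : u ^ 2 = 1)
    (huS : u ∈ (S : Subgroup G)) (hu1 : u ≠ 1) (huz : u ≠ z)
    (hiso : ∀ g : G, g * u * g⁻¹ ∈ (S : Subgroup G) → g * u * g⁻¹ = u ∨ g * u * g⁻¹ = u * z) :
    u ∈ center G := by
  haveI : Fact (Nat.Prime 2) := ⟨Nat.prime_two⟩
  set Z := zpowers z with hZ
  haveI hZn : Z.Normal := ⟨fun d hd x => by
    rw [mem_center_iff.1 (zpowers_le.2 hz hd) x, mul_inv_cancel_right]; exact hd⟩
  set q := QuotientGroup.mk' Z with hq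
  have hsurj : Function.Surjective q := QuotientGroup.mk'_surjective Z
  set S' := S.mapSurjective hsurj with hS'
  have hq1 : ∀ x, q x = 1 ↔ x = 1 ∨ x = z := by
    intro x
    rw [hq, QuotientGroup.mk'_apply, QuotientGroup.eq_one_iff]
    constructor
    · rintro ⟨i, rfl⟩
      rcases Int.even_or_odd i with ⟨d, rfl⟩ | ⟨d, rfl⟩
      · left; simp only; rw [← two_mul, zpow_mul, zpow_two, ← sq, hz2, one_zpow]
      · right; simp only; rw [zpow_add, zpow_mul, zpow_two, ← sq, hz2, one_zpow, one_mul, zpow_one]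
    · rintro (rfl | rfl)
      exacts [one_mem _, mem_zpowers _]
  have hperf' : commutator (G ⧸ Z) = ⊤ := by
    rw [_root_.commutator_def, ← (MonoidHom.range_eq_top.2 hsurj), MonoidHom.range_eq_map,
      ← Subgroup.map_commutator, ← _root_.commutator_def, hperf]
  have hu' : orderOf (q u) = 2 := orderOf_eq_prime (by rw [← map_pow, hu2, map_one]) fun h => by
    rcases (hq1 u).1 h with h' | h'
    exacts [hu1 h', huz h']
  obtain ⟨N, hN, hodd, hc⟩ := CfsgLib.Signalizer.zStarTheorem.{u} (G ⧸ Z) S' (q u) hu'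
    (mem_map_of_mem q huS) (by
      intro y hy
      obtain ⟨g, rfl⟩ := hsurj y
      rw [← map_inv, ← map_mul, ← map_mul] at hy ⊢
      obtain ⟨x, hx, hxq⟩ := hy
      have hmem : g * u * g⁻¹ ∈ (S : Subgroup G) := by
        have h1 : x⁻¹ * (g * u * g⁻¹) ∈ Z := QuotientGroup.eq.1 hxq
        have := mul_mem hx ((zpowers_le.2 hzS) h1)
        rwa [mul_inv_cancel_left] at this
      rcases hiso g hmem with h | h
      · rw [h]
      · rw [h, map_mul, (hq1 z).2 (Or.inr rfl), mul_one])
  haveI := hN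
  haveI : Group.IsSolvable N := Cfsg.Agent.S0205.result hodd
  set M := N.comap q with hM
  have hMs : Group.IsSolvable M := by
    let f : M →* N := (q.comp M.subtype).codRestrict N fun a => a.2
    haveI : Group.IsSolvable Z := Group.isSolvable_of_comm fun a b =>
      Subtype.ext (mem_center_iff.1 (zpowers_le.2 hz b.2) a)
    refine Group.isSolvable_of_ker_le_range (Subgroup.inclusion (H := Z) (K := M) ?_) f ?_
    · intro d hd
      show q d ∈ N
      rw [show q d = 1 from (QuotientGroup.eq_one_iff d).2 hd]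
      exact one_mem N
    · intro a ha
      have : q (a : G) = 1 := congrArg Subtype.val ha
      exact ⟨⟨a, (QuotientGroup.eq_one_iff (a : G)).1 this⟩, Subtype.ext rfl⟩
  exact mem_center_of_commutators hperf fun g => hsol M inferInstance hMs (by
    show q (u * g * u⁻¹ * g⁻¹) ∈ N
    simpa using hc (q g))

end CfsgLib.CyclicFourFix
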