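import Cfsg.Agent.Lib.CyclicFourFix.FourStruct
import Cfsg.Agent.Lib.CyclicFourFix.Fusion
import Cfsg.Agent.S0111
import Cfsg.Agent.S0949

/-!
A perfect group with central solvable normal subgroups and a Sylow 2-subgroup carrying an
involutory automorphism with cyclic fixed group of order four and an invariant normal four group:
the Sylow subgroup is dihedral of order eight.
-/

set_option autoImplicit false
set_option linter.style.haveILetI false
set_option linter.unusedSectionVars false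

namespace CfsgLib.CyclicFourFix

open Subgroup
open scoped commutatorElement

universe u

section Gen

variable {T : Type u} [Group T] [Finite T] {φ : T ≃* T} {s u : T}

/-- An element with square in the four group outside `W` and `sW` generates, with its image, the
whole group modulo the four group. -/
theorem coset_gen (hT : IsPGroup 2 T) (h : FixFour φ s) (hu : FourNormal φ (s ^ 2) u) {v : T}
    (hv2 : v ^ 2 ∈ fourSubgroup hT h hu) (hv : v ∉ fourSubgroup hT h hu)
    (hvs : s⁻¹ * v ∉ fourSubgroup hT h hu) :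
    (∀ i : ℤ, ((v * φ v) ^ i)⁻¹ * v ∉ fourSubgroup hT h hu) ∧
    (∀ a, ∃ i : ℤ, ((v * φ v) ^ i)⁻¹ * a ∈ fourSubgroup hT h hu ∨
      (v * (v * φ v) ^ i)⁻¹ * a ∈ fourSubgroup hT h hu) ∧
      ∃ m : ℕ, s⁻¹ * (v * φ v) ^ 2 ^ m ∈ fourSubgroup hT h hu := by
  obtain ⟨-, y, ⟨i₀, hsy⟩, ⟨k, hk, hky⟩, hcase⟩ := quotient_shape hT h hu
  haveI := four_normal hT h hu
  set W := fourSubgroup hT h hu with hW
  have hq : ∀ a b : T, a⁻¹ * b ∈ W → (a : T ⧸ W) = (b : T ⧸ W) := fun a b => QuotientGroup.eq.2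
  have hs1 : ((s : T) : T ⧸ W) ≠ 1 := fun e =>
    s_notMem_four hT h hu ((QuotientGroup.eq_one_iff s).1 e)
  have hs2 : ((s : T) : T ⧸ W) ^ 2 = 1 := by
    rw [← QuotientGroup.mk_pow]; exact (QuotientGroup.eq_one_iff _).2 (z_mem_four hT h hu)
  have hv1 : ((v : T) : T ⧸ W) ≠ 1 := fun e => hv ((QuotientGroup.eq_one_iff v).1 e)
  have hv2' : ((v : T) : T ⧸ W) ^ 2 = 1 := by
    rw [← QuotientGroup.mk_pow]; exact (QuotientGroup.eq_one_iff _).2 hv2
  have hsmem : ((s : T) : T ⧸ W) ∈ zpowers (y : T ⧸ W) :=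
    ⟨i₀, by simpa using (hq _ _ hsy).symm⟩
  have hnot : ∀ i : ℤ, (y ^ i)⁻¹ * v ∉ W := fun i hi => hvs (QuotientGroup.eq.1
    (eq_of_involutions_zpowers (hT.to_quotient W) hsmem ⟨i, by simpa using hq _ _ hi⟩ hs2 hv2' hs1 hv1))
  rcases hcase with hall | ⟨g, hg, hcov, hinv, b, hb, hbg⟩
  · obtain ⟨i, hi⟩ := hall v; exact absurd hi (hnot i)
  obtain ⟨i, hi⟩ := (hcov v).resolve_left fun ⟨i, hi⟩ => hnot i hi
  set Y := ((y : T) : T ⧸ W) with hY
  set G := ((g : T) : T ⧸ W) with hG
  have hinv' : G * Y * G⁻¹ = Y⁻¹ := by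
    have : ((g * y * g⁻¹ * y : T) : T ⧸ W) = 1 := (QuotientGroup.eq_one_iff _).2 hinv
    rw [QuotientGroup.mk_mul, QuotientGroup.mk_mul, QuotientGroup.mk_mul, QuotientGroup.mk_inv] at this
    exact eq_inv_of_mul_eq_one_left this
  have hV : ((v : T) : T ⧸ W) = G * Y ^ i := by
    rw [← hq _ _ hi, QuotientGroup.mk_mul, QuotientGroup.mk_zpow]
  have hconj : ∀ j : ℤ, G * Y ^ j * G⁻¹ = Y ^ (-j) := fun j => by
    rw [← conj_zpow, hinv', inv_zpow, zpow_neg]
  have hφY : ((φ y : T) : T ⧸ W) = Y ^ k := by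
    rw [← hq _ _ hky, QuotientGroup.mk_zpow]
  have hmap : ∀ a c : T, a⁻¹ * c ∈ W → ((φ a : T) : T ⧸ W) = ((φ c : T) : T ⧸ W) := by
    intro a c hac
    refine hq _ _ ?_
    have := four_map hT h hu hac
    rwa [map_mul, map_inv] at this
  have hφV : ((φ v : T) : T ⧸ W) = G * Y ^ (b + k * i) := by
    rw [← hmap _ _ hi, map_mul, map_zpow, QuotientGroup.mk_mul, QuotientGroup.mk_zpow, hφY,
      ← hq _ _ hbg, QuotientGroup.mk_mul, QuotientGroup.mk_zpow, ← zpow_mul, mul_assoc, ← zpow_add]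
  have hG2 : G * G = 1 := by
    have := hv2'
    rw [hV, sq, show G * Y ^ i * (G * Y ^ i) = (G * Y ^ i * G⁻¹) * (G * G) * Y ^ i by group,
      hconj] at this
    calc G * G = Y ^ i * (Y ^ (-i) * (G * G) * Y ^ i) * Y ^ (-i) := by group
      _ = 1 := by rw [this]; group
  set X := ((v * φ v : T) : T ⧸ W) with hX
  have hXY : X = Y ^ (b + (k - 1) * i) := by
    rw [hX, QuotientGroup.mk_mul, hφV, hV,
      show G * Y ^ i * (G * Y ^ (b + k * i)) = (G * Y ^ i * G⁻¹) * (G * G) * Y ^ (b + k * i) by group,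
      hconj, hG2, mul_one, ← zpow_add]
    congr 1; ring
  obtain ⟨N, hN⟩ := IsPGroup.iff_orderOf.1 (hT.to_quotient W) Y
  have hodd : Odd (b + (k - 1) * i) := by
    obtain ⟨l, rfl⟩ := hk
    exact hb.add_even ⟨l * i, by ring⟩
  have hYX : Y ∈ zpowers X := by
    obtain ⟨e, he⟩ := hodd
    obtain ⟨p, q, hpq⟩ : IsCoprime (b + (k - 1) * i) ((2 : ℤ) ^ N) := by
      rw [he]; exact IsCoprime.pow_right ⟨1, -e, by ring⟩
    refine ⟨p, ?_⟩
    simp only
    rw [hXY, ← zpow_mul, mul_comm]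
    rw [show p * (b + (k - 1) * i) = 1 - q * 2 ^ N by linarith, zpow_sub, zpow_one,
      (zpow_eq_one_iff_dvd hN _).2 ⟨q, by ring⟩, inv_one, mul_one]
  have hXle : zpowers Y ≤ zpowers X := zpowers_le.2 hYX
  have hpowX : ∀ j : ℤ, ((((v * φ v) ^ j : T)) : T ⧸ W) = X ^ j := fun j => QuotientGroup.mk_zpow _ _ _
  refine ⟨fun j hj => ?_, fun a => ?_, ?_⟩
  · have h1 : ((v : T) : T ⧸ W) ∈ zpowers Y := by
      rw [← hq _ _ hj, hpowX, hXY, ← zpow_mul]; exact zpow_mem (mem_zpowers Y) _
    obtain ⟨l, hl⟩ := h1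
    exact hnot l (QuotientGroup.eq.1 (by simpa using hl))
  · rcases hcov a with ⟨j, hj⟩ | ⟨j, hj⟩
    · obtain ⟨l, hl⟩ := hXle (zpow_mem (mem_zpowers Y) j)
      exact ⟨l, Or.inl (QuotientGroup.eq.1 (by
        rw [hpowX]; simp only at hl; rw [hl, ← hq _ _ hj, QuotientGroup.mk_zpow]))⟩
    · obtain ⟨l, hl⟩ := hXle (zpow_mem (mem_zpowers Y) (-i + j))
      simp only at hl
      exact ⟨l, Or.inr (QuotientGroup.eq.1 (by
        rw [QuotientGroup.mk_mul, hpowX, hl, hV, ← hq _ _ hj, QuotientGroup.mk_mul,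
          QuotientGroup.mk_zpow, mul_assoc, ← zpow_add]
        congr 2; ring))⟩
  · obtain ⟨l, hl⟩ := hXle hsmem
    simp only at hl
    obtain ⟨M, hM⟩ := IsPGroup.iff_orderOf.1 (hT.to_quotient W) X
    have := (zpow_sq_eq_one hM (i := l) (by rw [hl]; exact hs2)).resolve_left (by rw [hl]; exact hs1)
    refine ⟨M - 1, QuotientGroup.eq.1 ?_⟩
    rw [QuotientGroup.mk_pow, ← hX, ← this, hl]

end Gen

section Case

variable {A : Type u} [Group A] [Finite A] {S : Sylow 2 A}

/-- Fusion in `A` of elements of the Sylow subgroup. -/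
def Fus (a b : ↥(S : Subgroup A)) : Prop := ∃ g : A, g * (a : A) * g⁻¹ = (b : A)

theorem Fus.symm {a b : ↥(S : Subgroup A)} (h : Fus a b) : Fus b a := by
  obtain ⟨g, hg⟩ := h
  exact ⟨g⁻¹, by rw [← hg]; group⟩

theorem Fus.trans {a b c : ↥(S : Subgroup A)} (h : Fus a b) (h' : Fus b c) : Fus a c := by
  obtain ⟨g, hg⟩ := h
  obtain ⟨k, hk⟩ := h'
  exact ⟨k * g, by rw [← hk, ← hg]; group⟩

theorem Fus.of_conj (a g : ↥(S : Subgroup A)) : Fus a (g * a * g⁻¹) := ⟨g, rfl⟩

theorem Fus.sq_eq {a b : ↥(S : Subgroup A)} (h : Fus a b) (ha : a ^ 2 = 1) : b ^ 2 = 1 := by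
  obtain ⟨g, hg⟩ := h
  apply Subtype.ext
  rw [Subgroup.coe_pow, ← hg, conj_pow, ← Subgroup.coe_pow, ha]
  simp

theorem Fus.ne_one {a b : ↥(S : Subgroup A)} (h : Fus a b) (ha : a ≠ 1) : b ≠ 1 := by
  obtain ⟨g, hg⟩ := h
  rintro rfl
  exact ha (Subtype.ext (conj_eq_one_iff.1 hg))

variable (hperf : commutator A = ⊤)
include hperf

theorem no_index_two (H : Subgroup A) : H.index ≠ 2 := by
  intro hH
  haveI := Subgroup.normal_of_index_eq_two hH
  have hle : commutator A ≤ H := by
    rw [_root_.commutator_def, Subgroup.commutator_le]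
    intro a _ b _
    rw [← QuotientGroup.eq_one_iff]
    have hc : ∀ p q : A ⧸ H, p * q = q * p := by
      haveI : Fact (Nat.Prime 2) := ⟨Nat.prime_two⟩
      haveI : IsCyclic (A ⧸ H) := isCyclic_of_prime_card (p := 2) (by rw [← Subgroup.index_eq_card, hH])
      letI : CommGroup (A ⧸ H) := IsCyclic.commGroup
      exact fun p q => mul_comm p q
    show QuotientGroup.mk' H ⁅a, b⁆ = 1
    rw [map_commutatorElement, commutatorElement_eq_one_iff_commute]
    exact hc _ _
  rw [hperf, top_le_iff] at hle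
  rw [hle, Subgroup.index_top] at hH
  omega

theorem thompson {M : Subgroup ↥(S : Subgroup A)} {e a : ↥(S : Subgroup A)} (he : e ∉ M)
    (hcov : ∀ b, b ∈ M ∨ e⁻¹ * b ∈ M) (ha2 : a ^ 2 = 1) (ha : a ∉ M) :
    ∃ m ∈ M, Fus a m := by
  haveI : Fact (Nat.Prime 2) := ⟨Nat.prime_two⟩
  have hrel : (M.map (S : Subgroup A).subtype).relIndex (S : Subgroup A) = 2 := by
    rw [Subgroup.relIndex, Subgroup.subgroupOf,
      Subgroup.comap_map_eq_self_of_injective (S : Subgroup A).subtype_injective]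
    exact index_two_of_cover he hcov
  have hord : orderOf (a : A) = 2 := orderOf_eq_prime (by rw [← Subgroup.coe_pow, ha2]; rfl)
    fun h1 => ha ((show a = 1 from Subtype.ext h1) ▸ one_mem M)
  rcases Cfsg.Agent.S0111.result S (M.map (S : Subgroup A).subtype) (Subgroup.map_subtype_le M) hrel
      (a : A) hord a.2 (fun hm => by
        obtain ⟨a', ha', e'⟩ := hm
        exact ha ((show a' = a from Subtype.ext e') ▸ ha')) with ⟨H, -, hH, -⟩ | ⟨g, m, hm, hgm⟩
  · exact absurd hH (no_index_two hperf H)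
  · exact ⟨m, hm, g, hgm.symm⟩

omit hperf in
theorem not_fus_z {z : ↥(S : Subgroup A)} (hzc : ∀ a, Commute a z) (hz1 : z ≠ 1) (hz2 : z ^ 2 = 1)
    (hsq : ∀ a : ↥(S : Subgroup A), (a ^ 2) ^ 2 = 1 → a ^ 2 ≠ 1 → a ^ 2 = z)
    {a r : ↥(S : Subgroup A)} (hra : Commute r a) (hr : r ^ 2 = z) (haz : a ≠ z) : ¬ Fus a z := by
  rintro ⟨g, hg⟩
  refine not_conj_of_squares S (z := (z : A)) (u := (a : A)) (r := (r : A))
    (fun x hx => congrArg Subtype.val (hzc ⟨x, hx⟩).eq)
    (fun e => hz1 (Subtype.ext e)) (by rw [← Subgroup.coe_pow, hz2]; rfl)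
    (fun x hx h4 h2 => ?_) r.2 (congrArg Subtype.val hra.eq) (by rw [← Subgroup.coe_pow, hr])
    (fun e => haz (Subtype.ext e)) g hg
  exact congrArg Subtype.val (hsq ⟨x, hx⟩ (Subtype.ext h4) fun e => h2 (congrArg Subtype.val e))

omit hperf in
theorem exists_normalizer_of_fus {a b : ↥(S : Subgroup A)} (ha : ∀ c, Commute c a)
    (hb : ∀ c, Commute c b) (hab : Fus a b) :
    ∃ n : A, n ∈ Subgroup.normalizer ((S : Subgroup A) : Set A) ∧ n * (a : A) * n⁻¹ = b := by
  haveI : Fact (Nat.Prime 2) := ⟨Nat.prime_two⟩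
  obtain ⟨g, hg⟩ := hab
  have hmem : ∀ c : ↥(S : Subgroup A), (∀ d, Commute d c) →
      (c : A) ∈ centralizer ((S : Subgroup A) : Set A) := fun c hc =>
    mem_centralizer_iff.2 fun x hx => congrArg Subtype.val (hc ⟨x, hx⟩).eq
  obtain ⟨n, hn, hne⟩ := Sylow.conj_eq_normalizer_conj_of_mem_centralizer S (a : A) g⁻¹
    (hmem a ha) (by rw [inv_inv, hg]; exact hmem b hb)
  refine ⟨n⁻¹, inv_mem hn, ?_⟩
  rw [inv_inv, ← hne, inv_inv, hg]

omit hperf in
/-- A central involution in the derived group of a commutative-by-two Sylow subgroup is fixed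
by the normalizer, and the other central involution is not fused to another one. -/
theorem not_fus_of_fixed {z a b : ↥(S : Subgroup A)} (ha : ∀ c, Commute c a) (hb : ∀ c, Commute c b)
    (hz2 : z ^ 2 = 1) (hz1 : z ≠ 1)
    (hfix : ∀ n ∈ Subgroup.normalizer ((S : Subgroup A) : Set A), n * (z : A) * n⁻¹ = z)
    (hab : b = a * z) : ¬ Fus a b := by
  haveI : Fact (Nat.Prime 2) := ⟨Nat.prime_two⟩
  intro hf
  obtain ⟨n, hn, hne⟩ := exists_normalizer_of_fus ha hb hf
  have hzeq : ∀ j : ℕ, n ^ j * (a : A) * (n ^ j)⁻¹ = a * (z : A) ^ j := by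
    intro j
    induction j with
    | zero => simp
    | succ j ih =>
      rw [pow_succ' n, show n * n ^ j * (a : A) * (n * n ^ j)⁻¹
        = n * (n ^ j * a * (n ^ j)⁻¹) * n⁻¹ by group, ih, ← conj_mul, hne, ← conj_pow,
        hfix n hn, hab, Subgroup.coe_mul, pow_succ', mul_assoc]
  set o := orderOf n with ho
  obtain ⟨a2, m, hmodd, hom⟩ := Nat.exists_eq_two_pow_mul_odd (n := o) (orderOf_pos n).ne'
  have hpow : n ^ m ∈ (S : Subgroup A) := by
    have hP : IsPGroup 2 (zpowers (n ^ m)) := by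
      refine IsPGroup.of_card_dvd_pow (n := a2) ?_
      rw [Nat.card_zpowers]
      apply orderOf_dvd_of_pow_eq_one
      rw [← pow_mul, mul_comm, ← hom, ho, pow_orderOf_eq_one]
    have h2 : zpowers (n ^ m) ⊓ Subgroup.normalizer ((S : Subgroup A) : Set A) = zpowers (n ^ m) :=
      inf_eq_left.2 (zpowers_le.2 (pow_mem hn m))
    exact (inf_eq_left.1 ((hP.inf_normalizer_sylow S).symm.trans h2)) (mem_zpowers _)
  have h1 := hzeq m
  have hc : Commute ((n ^ m : A)) (a : A) := congrArg Subtype.val (ha ⟨_, hpow⟩).eq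
  rw [hc.eq, mul_inv_cancel_right, left_eq_mul] at h1
  obtain ⟨e, rfl⟩ := hmodd
  rw [pow_succ, pow_mul, ← Subgroup.coe_pow, hz2, Subgroup.coe_one, one_pow, one_mul] at h1
  exact hz1 (Subtype.ext h1)

/-- A Sylow 2-subgroup `⟨u⟩ × ⟨x, v⟩` with `⟨x, v⟩` dihedral and no fusion among the central
involutions is impossible. -/
theorem rank_three_absurd {x v u z : ↥(S : Subgroup A)} (hT : IsPGroup 2 ↥(S : Subgroup A))
    (hzc : ∀ a, Commute a z) (huc : ∀ a, Commute a u) (hu2 : u ^ 2 = 1) (hz2 : z ^ 2 = 1)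
    (hv2 : v ^ 2 = 1) (hz1 : z ≠ 1) (hu1 : u ≠ 1) (huz : u ≠ z) (hvx : v * x * v⁻¹ = x⁻¹)
    (hzx : ∃ j : ℤ, x ^ (2 * j) = z)
    (hform : ∀ a, ∃ i : ℤ, a = x ^ i ∨ a = u * x ^ i ∨ a = v * x ^ i ∨ a = v * u * x ^ i)
    (hvn : ∀ i : ℤ, v ≠ x ^ i ∧ v ≠ u * x ^ i)
    (hnf1 : ¬ Fus u z) (hnf2 : ¬ Fus (u * z) z) (hnf3 : ¬ Fus u (u * z)) : False := by
  obtain ⟨j₀, hj₀⟩ := hzx
  have huu : u * u = 1 := by rw [← sq]; exact hu2
  have hvv : v * v = 1 := by rw [← sq]; exact hv2
  have hvi : v⁻¹ = v := inv_eq_of_mul_eq_one_right hvv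
  have hvxi : ∀ i : ℤ, v * x ^ i * v⁻¹ = x ^ (-i) := fun i => by
    rw [← conj_zpow, hvx, inv_zpow, zpow_neg]
  have hpar : ∀ (j : ℤ) (e : ↥(S : Subgroup A)), Commute x e →
      Fus (v * e) (v * (x ^ (2 * j) * e)) := by
    intro j e he
    have h1 : x ^ (-j) * (v * e) * (x ^ (-j))⁻¹ = v * (x ^ (2 * j) * e) := by
      calc x ^ (-j) * (v * e) * (x ^ (-j))⁻¹ = x ^ (-j) * v * (e * x ^ j) := by group
        _ = x ^ (-j) * v * (x ^ j * e) := by rw [(he.zpow_left j).eq]
        _ = (v * x ^ j * v⁻¹) * v * (x ^ j * e) := by rw [hvxi]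
        _ = v * (x ^ (2 * j) * e) := by
          rw [two_mul, zpow_add]
          group
    exact h1 ▸ Fus.of_conj (v * e) (x ^ (-j))
  have hcu : ∀ a, Commute a (u * z) := fun a => (huc a).mul_right (hzc a)
  -- transfer with respect to the maximal subgroups not containing `u`
  have key : ∀ d d' : ↥(S : Subgroup A), (d = 1 ∨ d = u) → (d' = 1 ∨ d' = u) →
      ∀ a : ↥(S : Subgroup A), (a = u ∨ a = u * z) →
        Fus a (v * d') ∨ Fus a (v * (x * (d * d'))) := by
    intro d d' hd hd' a ha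
    have hdc : ∀ e, (e = 1 ∨ e = u) → (∀ b, Commute b e) ∧ e * e = 1 := by
      rintro e (rfl | rfl)
      exacts [⟨fun b => Commute.one_right b, one_mul 1⟩, ⟨huc, huu⟩]
    obtain ⟨hdC, hdd⟩ := hdc d hd
    obtain ⟨hdC', hdd'⟩ := hdc d' hd'
    set c := x * d with hc
    set w := v * d' with hw
    have hcpow : ∀ i : ℤ, c ^ i = x ^ i * d ^ i := fun i => (hdC x).mul_zpow i
    have hd2 : ∀ j : ℤ, d ^ (2 * j) = 1 := fun j => by
      rw [zpow_mul, zpow_two, hdd, one_zpow]
    have hww : w * w = 1 := by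
      rw [hw, show v * d' * (v * d') = v * (d' * v) * d' by group, ← (hdC' v).eq,
        show v * (v * d') * d' = (v * v) * (d' * d') by group, hvv, hdd', one_mul]
    have hwc : w * c * w⁻¹ = c⁻¹ := by
      have e1 : d' * c * d'⁻¹ = c := by rw [← (hdC' c).eq, mul_inv_cancel_right]
      rw [hw, show v * d' * c * (v * d')⁻¹ = v * (d' * c * d'⁻¹) * v⁻¹ by group, e1, hc,
        show v * (x * d) * v⁻¹ = (v * x * v⁻¹) * (v * d * v⁻¹) by group, hvx, (hdC v).eq,
        mul_inv_cancel_right, mul_inv_rev, inv_eq_of_mul_eq_one_right hdd, (hdC x⁻¹).eq]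
    set M := twoCosets c w (hww ▸ one_mem _) (hwc ▸ inv_mem (mem_zpowers c)) with hM
    have hzc' : z ∈ zpowers c := ⟨2 * j₀, by simp only; rw [hcpow, hd2, mul_one, hj₀]⟩
    have hzM : z ∈ M := Or.inl hzc'
    have huM : u ∉ M := by
      rintro (h1 | h1)
      · exact huz (eq_of_involutions_zpowers hT h1 hzc' hu2 hz2 hu1 hz1)
      · obtain ⟨i, hi⟩ := h1
        simp only at hi
        have hveq : v = c ^ i * (u * d') := by
          have h2 : w⁻¹ = v * d' := inv_eq_of_mul_eq_one_right hww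
          rw [hi, h2, show v * d' * u * (u * d') = v * (d' * (u * u) * d') by group, huu, mul_one,
            hdd', mul_one]
        have hmem : ∀ e, (e = 1 ∨ e = u) → ∀ e', (e' = 1 ∨ e' = u) → (e * e' = 1 ∨ e * e' = u) := by
          rintro e (rfl | rfl) e' (rfl | rfl) <;> simp [huu]
        have hdi : d ^ i = 1 ∨ d ^ i = u := by
          rcases Int.even_or_odd i with ⟨l, rfl⟩ | ⟨l, rfl⟩
          · left; rw [← two_mul]; exact hd2 l
          · rw [zpow_add, hd2, one_mul, zpow_one]; exact hd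
        rw [hcpow, mul_assoc] at hveq
        rcases hmem _ hdi _ (hmem u (Or.inr rfl) d' hd') with h3 | h3 <;> rw [h3] at hveq
        · exact (hvn i).1 (by rw [hveq, mul_one])
        · exact (hvn i).2 (by rw [hveq, (huc (x ^ i)).eq])
    have hcov : ∀ b, b ∈ M ∨ u⁻¹ * b ∈ M := by
      haveI : (zpowers u).Normal := ⟨fun e he g => by
        obtain ⟨l, rfl⟩ := he
        simp only
        rw [((huc g).zpow_right l).eq, mul_inv_cancel_right]
        exact ⟨l, rfl⟩⟩
      have hu_mem : u ∈ M ⊔ zpowers u := le_sup_right (α := Subgroup _) (mem_zpowers u)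
      have hd_mem : ∀ e, (e = 1 ∨ e = u) → e ∈ M ⊔ zpowers u := by
        rintro e (rfl | rfl)
        exacts [one_mem _, hu_mem]
      have hcM : c ∈ M := Or.inl (mem_zpowers c)
      have hwM : w ∈ M := Or.inr (by rw [inv_mul_cancel]; exact one_mem _)
      have hx_mem : x ∈ M ⊔ zpowers u := by
        have := mul_mem ((le_sup_left : M ≤ M ⊔ zpowers u) hcM) (inv_mem (hd_mem d hd))
        rwa [hc, mul_inv_cancel_right] at this
      have hv_mem : v ∈ M ⊔ zpowers u := by
        have := mul_mem ((le_sup_left : M ≤ M ⊔ zpowers u) hwM) (inv_mem (hd_mem d' hd'))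
        rwa [hw, mul_inv_cancel_right] at this
      intro b
      have hb : b ∈ M ⊔ zpowers u := by
        obtain ⟨i, rfl | rfl | rfl | rfl⟩ := hform b
        exacts [zpow_mem hx_mem i, mul_mem hu_mem (zpow_mem hx_mem i),
          mul_mem hv_mem (zpow_mem hx_mem i), mul_mem (mul_mem hv_mem hu_mem) (zpow_mem hx_mem i)]
      obtain ⟨p, hp, q, hq, rfl⟩ := Subgroup.mem_sup_of_normal_right.1 hb
      obtain ⟨l, rfl⟩ := hq
      simp only
      rcases Int.even_or_odd l with ⟨r, rfl⟩ | ⟨r, rfl⟩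
      · left; rw [← two_mul, zpow_mul, zpow_two, huu, one_zpow, mul_one]; exact hp
      · right
        rw [zpow_add, zpow_mul, zpow_two, huu, one_zpow, one_mul, zpow_one, (huc p).eq,
          inv_mul_cancel_left]
        exact hp
    have haM : a ∉ M ∧ a ^ 2 = 1 ∧ a ≠ 1 ∧ ¬ Fus a z := by
      rcases ha with rfl | rfl
      · exact ⟨huM, hu2, hu1, hnf1⟩
      · refine ⟨fun h' => huM ((Subgroup.mul_mem_cancel_right M hzM).1 h'), ?_, ?_, hnf2⟩
        · rw [(hzc u).mul_pow, hu2, hz2, one_mul]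
        · exact fun h' => huz (by rw [eq_inv_of_mul_eq_one_left h',
            inv_eq_of_mul_eq_one_right (by rw [← sq]; exact hz2)])
    obtain ⟨haM, ha2, ha1, haz⟩ := haM
    obtain ⟨m, hm, ham⟩ := thompson hperf huM hcov ha2 haM
    rcases hm with hm | hm
    · refine absurd ?_ haz
      rwa [eq_of_involutions_zpowers hT hzc' hm hz2 (ham.sq_eq ha2) hz1 (ham.ne_one ha1)]
    obtain ⟨i, hi⟩ := hm
    simp only at hi
    have hmi : m = v * d' * c ^ i := by rw [hi, hw, mul_inv_cancel_left]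
    rcases Int.even_or_odd i with ⟨l, rfl⟩ | ⟨l, rfl⟩
    · left
      refine ham.trans (Fus.symm ?_)
      rw [hmi, ← two_mul, hcpow, hd2, mul_one, mul_assoc, ← (hdC' (x ^ (2 * l))).eq]
      exact hpar l d' (hdC' x)
    · right
      refine ham.trans (Fus.symm ?_)
      have hxe : Commute x (x * (d * d')) := (Commute.refl x).mul_right ((hdC x).mul_right (hdC' x))
      have := hpar l _ hxe
      rw [hmi, hcpow, zpow_add, zpow_one, zpow_add, hd2, one_mul, zpow_one]
      have e1 : x ^ (2 * l) * (x * (d * d')) = d' * (x ^ (2 * l) * x * d) := by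
        rw [← (hdC' (x ^ (2 * l) * x * d)).eq]; group
      rw [e1, ← mul_assoc v d'] at this
      exact this
  have k00 := key 1 1 (Or.inl rfl) (Or.inl rfl)
  have k01 := key 1 u (Or.inl rfl) (Or.inr rfl)
  simp only [mul_one, one_mul] at k00 k01
  -- every class outside `⟨x, u⟩` meets `u` or `u z`
  have excl : ∀ p, Fus u p → Fus (u * z) p → False := fun p h1 h2 => hnf3 (h1.trans h2.symm)
  have cov : ∀ p, p = v ∨ p = v * x ∨ p = v * u ∨ p = v * (x * u) → Fus u p ∨ Fus (u * z) p := by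
    have main : ∀ p q, (∀ a, (a = u ∨ a = u * z) → Fus a p ∨ Fus a q) →
        (Fus u p ∨ Fus (u * z) p) ∧ (Fus u q ∨ Fus (u * z) q) := by
      intro p q hk
      rcases hk u (Or.inl rfl) with h1 | h1 <;> rcases hk (u * z) (Or.inr rfl) with h2 | h2
      exacts [(excl p h1 h2).elim, ⟨Or.inl h1, Or.inr h2⟩, ⟨Or.inr h2, Or.inl h1⟩,
        (excl q h1 h2).elim]
    rintro p (rfl | rfl | rfl | rfl)
    exacts [(main _ _ k00).1, (main _ _ k00).2, (main _ _ k01).1, (main _ _ k01).2]
  -- an involution other than `z, u, uz` is fused to its product with `z`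
  have hcls : ∀ a, a ^ 2 = 1 → a ≠ 1 → a = z ∨ a = u ∨ a = u * z ∨
      (Fus a (a * z) ∧ (Fus u a ∨ Fus (u * z) a)) := by
    intro a ha ha1
    have hinv : ∀ i : ℤ, (x ^ i) ^ 2 = 1 → x ^ i = 1 ∨ x ^ i = z := by
      intro i hi
      by_cases h1 : x ^ i = 1
      · exact Or.inl h1
      · exact Or.inr (eq_of_involutions_zpowers hT ⟨i, rfl⟩ ⟨2 * j₀, hj₀⟩ hi hz2 h1 hz1)
    have hrefl : ∀ (i : ℤ) (e : ↥(S : Subgroup A)), (e = 1 ∨ e = u) → a = v * (x ^ i * e) →
        Fus a (a * z) ∧ (Fus u a ∨ Fus (u * z) a) := by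
      intro i e he hai
      have hxe : ∀ k : ℤ, Commute (x ^ k) e := fun k => by
        rcases he with rfl | rfl
        exacts [Commute.one_right _, huc _]
      obtain ⟨r, hr, l, hl⟩ : ∃ r : ℤ, (r = 0 ∨ r = 1) ∧ ∃ l, i = 2 * l + r := by
        rcases Int.even_or_odd i with ⟨l, hl⟩ | ⟨l, hl⟩
        exacts [⟨0, Or.inl rfl, l, by omega⟩, ⟨1, Or.inr rfl, l, hl⟩]
      have hxre : Commute x (x ^ r * e) :=
        ((Commute.refl x).zpow_right r).mul_right (by simpa using hxe 1)
      have h1 : Fus (v * (x ^ r * e)) a := by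
        rw [hai, hl, zpow_add, mul_assoc (x ^ (2 * l))]
        exact hpar l _ hxre
      have h2 : Fus (v * (x ^ r * e)) (a * z) := by
        rw [hai, hl, ← hj₀, mul_assoc, mul_assoc, ← (hxe (2 * j₀)).eq, ← mul_assoc (x ^ (2 * l + r)),
          ← zpow_add, show 2 * l + r + 2 * j₀ = 2 * (l + j₀) + r by ring, zpow_add,
          mul_assoc (x ^ (2 * (l + j₀)))]
        exact hpar _ _ hxre
      refine ⟨h1.symm.trans h2, ?_⟩
      refine (cov _ ?_).imp (fun h => h.trans h1) (fun h => h.trans h1)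
      rcases hr with rfl | rfl <;> rcases he with rfl | rfl <;> simp
    obtain ⟨i, hi | hi | hi | hi⟩ := hform a <;> subst hi
    · exact Or.inl ((hinv i ha).resolve_left ha1)
    · have : (x ^ i) ^ 2 = 1 := by
        rwa [((huc (x ^ i)).symm).mul_pow, hu2, one_mul] at ha
      rcases hinv i this with h1 | h1 <;> rw [h1]
      exacts [Or.inr (Or.inl (mul_one u)), Or.inr (Or.inr (Or.inl rfl))]
    · exact Or.inr (Or.inr (Or.inr (hrefl i 1 (Or.inl rfl) (by rw [mul_one]))))
    · exact Or.inr (Or.inr (Or.inr (hrefl i u (Or.inr rfl)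
        (by rw [(huc (x ^ i)).eq, mul_assoc]))))
  obtain ⟨v', hv'x, hv'u⟩ : ∃ v', (v' = v ∨ v' = v * x) ∧ Fus u v' := by
    rcases k00 u (Or.inl rfl) with h1 | h1
    exacts [⟨v, Or.inl rfl, h1⟩, ⟨_, Or.inr rfl, h1⟩]
  have hv'ne : v' ≠ u := by
    rcases hv'x with rfl | rfl
    · exact fun h => (hvn 0).2 (by rw [h]; simp)
    · exact fun h => (hvn (-1)).2 (by rw [eq_mul_inv_of_mul_eq h, zpow_neg_one])
  obtain ⟨g, hg⟩ := hv'u.symm
  -- move a Sylow subgroup of the centralizer of `v'`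
  set P := ((S : Subgroup A) ⊓ centralizer {(v' : A)}).map (MulAut.conj g).toMonoidHom with hP
  obtain ⟨k, hk, hmem⟩ := exists_conj_mem S (z := (u : A))
    (fun y hy => congrArg Subtype.val (huc ⟨y, hy⟩).eq) (P := P)
    ((hT.to_le inf_le_left).map _) (by
      rintro _ ⟨y, hy, rfl⟩
      rw [← hg]
      have hyv : Commute y (v' : A) := mem_centralizer_singleton_iff.1 hy.2
      simpa [MulAut.conj_apply] using hyv.map (MulAut.conj g).toMonoidHom)
  have himg : ∀ y : ↥(S : Subgroup A), Commute y v' →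
      ∃ y' : ↥(S : Subgroup A), k * g * (y : A) * (k * g)⁻¹ = y' := by
    intro y hy
    refine ⟨⟨_, hmem (g * y * g⁻¹) ⟨y, ⟨y.2, mem_centralizer_singleton_iff.2
      (congrArg Subtype.val hy.eq)⟩, rfl⟩⟩, ?_⟩
    show _ = k * (g * y * g⁻¹) * k⁻¹
    group
  obtain ⟨z', hz'⟩ := himg z (hzc v').symm
  obtain ⟨u', hu'⟩ := himg u (huc v').symm
  have fz : Fus z z' := ⟨_, hz'⟩
  have fu : Fus u u' := ⟨_, hu'⟩
  have hkv : k * g * (v' : A) * (k * g)⁻¹ = (u : A) := by
    rw [show k * g * (v' : A) * (k * g)⁻¹ = k * (g * v' * g⁻¹) * k⁻¹ by group, hg, hk.eq,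
      mul_inv_cancel_right]
  have hz'eq : z' = z := by
    rcases hcls z' (fz.sq_eq hz2) (fz.ne_one hz1) with h1 | h1 | h1 | ⟨-, h1 | h1⟩
    · exact h1
    · exact absurd (h1 ▸ fz).symm hnf1
    · exact absurd (h1 ▸ fz).symm hnf2
    · exact absurd (h1.trans fz.symm) hnf1
    · exact absurd (h1.trans fz.symm) hnf2
  rcases hcls u' (fu.sq_eq hu2) (fu.ne_one hu1) with h1 | h1 | h1 | ⟨h1, -⟩
  · exact hnf1 (h1 ▸ fu)
  · refine hv'ne (Subtype.ext (mul_left_cancel (a := k * g) (mul_right_cancel (b := (k * g)⁻¹) ?_)))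
    rw [hkv, hu', h1]
  · exact hnf3 (h1 ▸ fu)
  · refine hnf3 (fu.trans (h1.trans (Fus.symm ⟨k * g, ?_⟩)))
    rw [Subgroup.coe_mul, Subgroup.coe_mul, ← conj_mul, hu', hz', hz'eq]

omit hperf in
/-- The shape data of `quotient_shape` with `u` central gives a cyclic derived group. -/
theorem derived_cyclic {φ : ↥(S : Subgroup A) ≃* ↥(S : Subgroup A)} {s u : ↥(S : Subgroup A)}
    (hT : IsPGroup 2 ↥(S : Subgroup A)) (h : FixFour φ s) (hu : FourNormal φ (s ^ 2) u)
    {y : ↥(S : Subgroup A)}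
    (hcase : (∀ a, ∃ i : ℤ, (y ^ i)⁻¹ * a ∈ fourSubgroup hT h hu) ∨
      ∃ g, (∀ i : ℤ, (y ^ i)⁻¹ * g ∉ fourSubgroup hT h hu) ∧
        (∀ a, (∃ i : ℤ, (y ^ i)⁻¹ * a ∈ fourSubgroup hT h hu) ∨
          ∃ i : ℤ, (g * y ^ i)⁻¹ * a ∈ fourSubgroup hT h hu) ∧
        g * y * g⁻¹ * y ∈ fourSubgroup hT h hu ∧
        ∃ b : ℤ, Odd b ∧ (g * y ^ b)⁻¹ * φ g ∈ fourSubgroup hT h hu)
    (huc : ∀ a, Commute a u) :
    ∃ c, commutator ↥(S : Subgroup A) ≤ zpowers c := by
  haveI := four_normal hT h hu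
  set W := fourSubgroup hT h hu with hW
  have hWc : ∀ w, w ∈ W → ∀ a, Commute a w := fun w hw a => commute_four hT h hu (huc a) hw
  set B := zpowers y ⊔ W with hB
  have hmem : ∀ a, a ∈ B → ∃ (i : ℤ) (w : ↥(S : Subgroup A)), w ∈ W ∧ a = y ^ i * w := by
    intro a ha
    obtain ⟨p, ⟨i, rfl⟩, q, hq, rfl⟩ := Subgroup.mem_sup_of_normal_right.1 ha
    exact ⟨i, q, hq, rfl⟩
  have hBc : ∀ a ∈ B, ∀ b ∈ B, a * b = b * a := by
    intro a ha b hb
    obtain ⟨i, w, hw, rfl⟩ := hmem a ha
    obtain ⟨j, w', hw', rfl⟩ := hmem b hb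
    exact ((((Commute.refl y).zpow_left i).zpow_right j).mul_right (hWc w' hw' _)).mul_left
      (hWc w hw _).symm |>.eq
  have hin : ∀ a, (∃ i : ℤ, (y ^ i)⁻¹ * a ∈ W) → a ∈ B := by
    rintro a ⟨i, hi⟩
    have := mul_mem ((le_sup_left : zpowers y ≤ B) ⟨i, rfl⟩) ((le_sup_right : W ≤ B) hi)
    simpa using this
  rcases hcase with hall | ⟨g, -, hcov, hinv, -⟩
  · refine ⟨1, ?_⟩
    rw [_root_.commutator_def, Subgroup.commutator_le]
    intro a _ b _
    have hab : Commute a b := hBc a (hin a (hall a)) b (hin b (hall b))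
    rw [commutatorElement_eq_one_iff_commute.2 hab]
    exact one_mem _
  set w := g * y * g⁻¹ * y with hw
  set c := g * y * g⁻¹ * y⁻¹ with hc
  have hgy : g * y * g⁻¹ = w * y⁻¹ := by rw [hw]; group
  have hwi : w⁻¹ = w := inv_eq_of_mul_eq_one_right (by rw [← sq]; exact four_sq hT h hu hinv)
  have hgw : g * w * g⁻¹ = w := by rw [(hWc w hinv g).eq, mul_inv_cancel_right]
  have hyw : Commute y w := hWc w hinv y
  have hc' : c = w * (y⁻¹ * y⁻¹) := by rw [hc, hgy, mul_assoc]
  have hcB : c ∈ B := by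
    rw [hc']
    exact mul_mem ((le_sup_right : W ≤ B) hinv) (mul_mem
      ((le_sup_left : zpowers y ≤ B) (inv_mem (mem_zpowers y)))
      ((le_sup_left : zpowers y ≤ B) (inv_mem (mem_zpowers y))))
  refine ⟨c, ?_⟩
  rw [_root_.commutator_def]
  refine commutator_le_zpowers hBc (g := g) (fun a => ?_) hcB ?_ ?_
  · rcases hcov a with h1 | ⟨i, hi⟩
    · exact Or.inl (hin a h1)
    · right
      refine hin _ ⟨i, ?_⟩
      rwa [show (y ^ i)⁻¹ * (g⁻¹ * a) = (g * y ^ i)⁻¹ * a by group]
  · have : g * c * g⁻¹ = c⁻¹ := by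
      rw [hc', show g * (w * (y⁻¹ * y⁻¹)) * g⁻¹
        = (g * w * g⁻¹) * ((g * y * g⁻¹)⁻¹ * (g * y * g⁻¹)⁻¹) by group, hgy, hgw]
      simp only [mul_inv_rev, inv_inv, hwi]
      rw [show w * (y * w * (y * w)) = w * ((y * w) * (y * w)) from rfl, hyw.eq,
        show w * (w * y * (w * y)) = (w * w) * ((y * w) * y) by group, hyw.eq,
        show w * w * (w * y * y) = (w * w) * (w * (y * y)) by group, ← sq w,
        four_sq hT h hu hinv, one_mul, (hyw.mul_left hyw).eq]
    rw [this]; exact inv_mem (mem_zpowers c)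
  · intro b hb
    obtain ⟨i, w', hw', rfl⟩ := hmem b hb
    have hgw' : g * w' * g⁻¹ = w' := by rw [(hWc w' hw' g).eq, mul_inv_cancel_right]
    have hgyc : g * y * g⁻¹ = c * y := by rw [hc]; group
    have hcy : Commute c y := hBc c hcB y ((le_sup_left : zpowers y ≤ B) (mem_zpowers y))
    refine ⟨i, ?_⟩
    simp only
    rw [show g * (y ^ i * w') * g⁻¹ * (y ^ i * w')⁻¹
      = (g * y ^ i * g⁻¹) * (g * w' * g⁻¹) * w'⁻¹ * (y ^ i)⁻¹ by group, hgw', ← conj_zpow, hgyc,
      hcy.mul_zpow, mul_inv_cancel_right, mul_inv_cancel_right]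

omit hperf in
/-- The normalizer of the Sylow subgroup fixes the involution of a cyclic derived group. -/
theorem normalizer_fixes {z c : ↥(S : Subgroup A)} (hT : IsPGroup 2 ↥(S : Subgroup A))
    (hz2 : z ^ 2 = 1) (hz1 : z ≠ 1) (hzC : z ∈ commutator ↥(S : Subgroup A))
    (hc : commutator ↥(S : Subgroup A) ≤ zpowers c) :
    ∀ n ∈ Subgroup.normalizer ((S : Subgroup A) : Set A), n * (z : A) * n⁻¹ = z := by
  intro n hn
  have hmemA : (z : A) ∈ ⁅(S : Subgroup A), (S : Subgroup A)⁆ := by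
    rw [← map_subtype_commutator]; exact mem_map_of_mem _ hzC
  have hnS : (S : Subgroup A).map (MulAut.conj n).toMonoidHom = (S : Subgroup A) := by
    ext a
    constructor
    · rintro ⟨b, hb, rfl⟩; exact (Subgroup.mem_normalizer_iff.1 hn b).1 hb
    · intro ha
      refine ⟨n⁻¹ * a * n, ?_, by simp [mul_assoc]⟩
      refine (Subgroup.mem_normalizer_iff.1 hn _).2 ?_
      simpa [mul_assoc] using ha
  have hnz : n * (z : A) * n⁻¹ ∈ ⁅(S : Subgroup A), (S : Subgroup A)⁆ := by
    have := mem_map_of_mem (MulAut.conj n).toMonoidHom hmemA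
    rwa [Subgroup.map_commutator, hnS] at this
  rw [← map_subtype_commutator] at hnz
  obtain ⟨y, hy, hye⟩ := hnz
  have hyz : y = z := by
    refine eq_of_involutions_zpowers hT (hc hy) (hc hzC) ?_ hz2 ?_ hz1
    · apply Subtype.ext
      rw [Subgroup.coe_pow, show (y : A) = _ from hye, conj_pow, ← Subgroup.coe_pow, hz2]
      simp
    · rintro rfl
      exact hz1 (Subtype.ext (conj_eq_one_iff.1 (hye.symm.trans rfl)))
  rw [← hye, hyz]; rfl

/-- Brauer's theorem on homocyclic Sylow subgroups excludes `Z4 × Z4`. -/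
theorem homocyclic_absurd
    (hsol : ∀ N : Subgroup A, N.Normal → Group.IsSolvable N → N ≤ center A)
    (e : ↥(S : Subgroup A) ≃* Multiplicative (ZMod (2 ^ 2) × ZMod (2 ^ 2))) : False := by
  haveI : Fact (Nat.Prime 2) := ⟨Nat.prime_two⟩
  set O := Cfsg.oddCore A with hO
  set q := QuotientGroup.mk' O with hq
  have hOodd : Odd (Nat.card O) := Nat.coprime_two_right.1 (CfsgLib.Cores.card_pPrimeCore_coprime 2)
  have hsurj : Function.Surjective q := QuotientGroup.mk'_surjective O
  have hperf' : commutator (A ⧸ O) = ⊤ := by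
    rw [_root_.commutator_def, ← (MonoidHom.range_eq_top.2 hsurj), MonoidHom.range_eq_map,
      ← Subgroup.map_commutator, ← _root_.commutator_def, hperf]
  set P := S.mapSurjective hsurj with hP
  have hdisj : Function.Injective (q.comp (S : Subgroup A).subtype) := by
    rw [← MonoidHom.ker_eq_bot_iff, eq_bot_iff]
    intro a ha
    have ha' : (a : A) ∈ O := (QuotientGroup.eq_one_iff (a : A)).1 ha
    obtain ⟨k, hk⟩ := IsPGroup.iff_orderOf.1 S.isPGroup' a
    have hd : orderOf (a : A) ∣ Nat.card O :=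
      Subgroup.orderOf_mk (a : A) ha' ▸ orderOf_dvd_natCard (⟨(a : A), ha'⟩ : O)
    rw [Subgroup.orderOf_coe, hk] at hd
    rcases k with _ | k
    · rw [Subgroup.mem_bot]; exact orderOf_eq_one_iff.1 (by simpa using hk)
    · exact absurd ((dvd_pow_self 2 k.succ_ne_zero).trans hd) (by
        obtain ⟨l, hl⟩ := hOodd; rw [hl]; omega)
  let e₁ : ↥(S : Subgroup A) ≃* ↥(P : Subgroup (A ⧸ O)) :=
    (MonoidHom.ofInjective hdisj).trans (MulEquiv.subgroupCongr (by
      rw [MonoidHom.range_comp, Subgroup.range_subtype]; rfl))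
  obtain ⟨hPn, -, hidx⟩ := Cfsg.Agent.S0949.result P 2 le_rfl (e₁.symm.trans e) (by
    intro N hN hNodd
    rw [eq_bot_iff]
    intro a ha
    obtain ⟨b, rfl⟩ := hsurj a
    haveI := hN
    have hle : N.comap q ≤ O := CfsgLib.Cores.le_pPrimeCore (Nat.coprime_two_right.2 (by
      rw [CfsgLib.Cores.card_comap_mk' O N]
      first
        | exact hOodd.mul hNodd
        | exact hNodd.mul hOodd))
    rw [Subgroup.mem_bot]
    exact (QuotientGroup.eq_one_iff b).2 (hle ha))
  haveI := hPn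
  have hPab : ∀ a ∈ (P : Subgroup (A ⧸ O)), ∀ b ∈ (P : Subgroup (A ⧸ O)), a * b = b * a := by
    intro a ha b hb
    have : (e₁.symm.trans e) (⟨a, ha⟩ * ⟨b, hb⟩) = (e₁.symm.trans e) (⟨b, hb⟩ * ⟨a, ha⟩) := by
      rw [map_mul, map_mul, mul_comm]
    exact congrArg Subtype.val ((e₁.symm.trans e).injective this)
  have hPtop : (P : Subgroup (A ⧸ O)) = ⊤ := by
    rcases hidx with h1 | h3
    · exact Subgroup.index_eq_one.1 h1
    · exfalso
      haveI : Fact (Nat.Prime 3) := ⟨Nat.prime_three⟩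
      haveI : IsCyclic ((A ⧸ O) ⧸ (P : Subgroup (A ⧸ O))) :=
        isCyclic_of_prime_card (p := 3) (by rw [← Subgroup.index_eq_card, h3])
      letI : CommGroup ((A ⧸ O) ⧸ (P : Subgroup (A ⧸ O))) := IsCyclic.commGroup
      have hle : commutator (A ⧸ O) ≤ (QuotientGroup.mk' (P : Subgroup (A ⧸ O))).ker :=
        Abelianization.commutator_subset_ker _
      rw [hperf', top_le_iff, QuotientGroup.ker_mk'] at hle
      rw [hle, Subgroup.index_top] at h3
      omega
  have htriv : ∀ a : A ⧸ O, a = 1 := by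
    intro a
    have : a ∈ commutator (A ⧸ O) := by rw [hperf']; exact mem_top a
    rw [_root_.commutator_def] at this
    have hle : ⁅(⊤ : Subgroup (A ⧸ O)), (⊤ : Subgroup (A ⧸ O))⁆ ≤ (⊥ : Subgroup (A ⧸ O)) := by
      rw [Subgroup.commutator_le]
      intro c _ d _
      rw [Subgroup.mem_bot, commutatorElement_eq_one_iff_commute]
      exact hPab c (by rw [hPtop]; exact mem_top c) d (by rw [hPtop]; exact mem_top d)
    exact Subgroup.mem_bot.1 (hle this)
  have h1 := hdisj (a₁ := e.symm (Multiplicative.ofAdd (1, 0))) (a₂ := 1) (by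
    rw [map_one]; exact htriv _)
  rw [MulEquiv.map_eq_one_iff] at h1
  have h2 : ((1 : ZMod (2 ^ 2)), (0 : ZMod (2 ^ 2))) = (0, 0) := congrArg Multiplicative.toAdd h1
  exact absurd (congrArg Prod.fst h2) (by decide)

/-- With all involutions in the four group and `z` fused to neither of the others, the four group is
central, against the derived group being cyclic. -/
theorem central_absurd
    (hsol : ∀ N : Subgroup A, N.Normal → Group.IsSolvable N → N ≤ center A)
    {φ : ↥(S : Subgroup A) ≃* ↥(S : Subgroup A)} {s u : ↥(S : Subgroup A)}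
    (hT : IsPGroup 2 ↥(S : Subgroup A)) (h : FixFour φ s) (hu : FourNormal φ (s ^ 2) u)
    {y : ↥(S : Subgroup A)}
    (hcase : (∀ a, ∃ i : ℤ, (y ^ i)⁻¹ * a ∈ fourSubgroup hT h hu) ∨
      ∃ g, (∀ i : ℤ, (y ^ i)⁻¹ * g ∉ fourSubgroup hT h hu) ∧
        (∀ a, (∃ i : ℤ, (y ^ i)⁻¹ * a ∈ fourSubgroup hT h hu) ∨
          ∃ i : ℤ, (g * y ^ i)⁻¹ * a ∈ fourSubgroup hT h hu) ∧
        g * y * g⁻¹ * y ∈ fourSubgroup hT h hu ∧
        ∃ b : ℤ, Odd b ∧ (g * y ^ b)⁻¹ * φ g ∈ fourSubgroup hT h hu)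
    (hout : ∀ v : ↥(S : Subgroup A), v ^ 2 = 1 → v ∈ fourSubgroup hT h hu)
    (hnu : ¬ Fus u (s ^ 2)) (hnuz : ¬ Fus (u * s ^ 2) (s ^ 2)) : False := by
  set z := s ^ 2 with hz
  have hz1 : z ≠ 1 := h.sq_ne
  have hzA2 : (z : A) ^ 2 = 1 := congrArg Subtype.val h.z_sq
  have huA2 : (u : A) ^ 2 = 1 := congrArg Subtype.val hu.sq
  have hconj : ∀ (a : ↥(S : Subgroup A)) (g : A), a ^ 2 = 1 → a ≠ 1 →
      g * (a : A) * g⁻¹ ∈ (S : Subgroup A) →
        ∃ b, Fus a b ∧ (b = z ∨ b = u ∨ b = u * z) ∧ g * (a : A) * g⁻¹ = b := by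
    intro a g ha ha1 hg
    have hf : Fus a ⟨_, hg⟩ := ⟨g, rfl⟩
    have := hout _ (hf.sq_eq ha)
    rw [mem_four] at this
    exact ⟨_, hf, this.resolve_left (hf.ne_one ha1), rfl⟩
  have hzZ : (z : A) ∈ center A := by
    refine mem_center_of_isolated hperf hsol S (orderOf_eq_prime hzA2 fun e => hz1 (Subtype.ext e))
      z.2 fun g hg => ?_
    obtain ⟨b, hb, hbc, hbe⟩ := hconj z g h.z_sq hz1 hg
    rcases hbc with rfl | rfl | rfl
    exacts [hbe, absurd hb.symm hnu, absurd hb.symm hnuz]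
  have huZ : (u : A) ∈ center A := by
    refine mem_center_of_isolated_mod hperf hsol S hzZ hzA2 z.2 huA2 u.2
      (fun e => hu.ne_one (Subtype.ext e)) (fun e => hu.ne_z (Subtype.ext e)) fun g hg => ?_
    obtain ⟨b, hb, hbc, hbe⟩ := hconj u g hu.sq hu.ne_one hg
    rcases hbc with rfl | rfl | rfl
    exacts [absurd hb hnu, Or.inl hbe, Or.inr (by rw [hbe, Subgroup.coe_mul])]
  have huc : ∀ a, Commute a u := fun a => Subtype.ext (mem_center_iff.1 huZ (a : A))
  obtain ⟨c, hc⟩ := derived_cyclic hT h hu hcase huc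
  have hmem : ∀ a : ↥(S : Subgroup A), (a : A) ∈ center A → a ^ 2 = 1 → a ∈ zpowers c := by
    intro a ha ha2
    refine hc ?_
    have hd := mem_derived_of_central hperf S ha a.2 (congrArg Subtype.val ha2)
    rw [← map_subtype_commutator] at hd
    obtain ⟨b, hb, hbe⟩ := hd
    exact (Subtype.ext hbe : b = a) ▸ hb
  exact hu.ne_z (eq_of_involutions_zpowers hT (hmem u huZ hu.sq) (hmem z hzZ h.z_sq) hu.sq h.z_sq
    hu.ne_one hz1)

end Case

section Main

variable {A : Type u} [Group A] [Finite A] {S : Sylow 2 A}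

/-- With an invariant normal four group the Sylow subgroup is dihedral of order eight. -/
theorem four_case (hperf : commutator A = ⊤)
    (hsol : ∀ N : Subgroup A, N.Normal → Group.IsSolvable N → N ≤ center A)
    {φ : ↥(S : Subgroup A) ≃* ↥(S : Subgroup A)} {s u : ↥(S : Subgroup A)} (h : FixFour φ s)
    (hu : FourNormal φ (s ^ 2) u) :
    (∀ x, x ∈ fourSubgroup S.isPGroup' h hu ∨ s⁻¹ * x ∈ fourSubgroup S.isPGroup' h hu) ∧
      ¬ Commute s u := by
  haveI : Fact (Nat.Prime 2) := ⟨Nat.prime_two⟩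
  have hT : IsPGroup 2 ↥(S : Subgroup A) := S.isPGroup'
  haveI := four_normal hT h hu
  set W := fourSubgroup hT h hu with hW
  by_contra hgoal
  have hsu : Commute s u := by
    by_cases hbig : ∀ x, x ∈ W ∨ s⁻¹ * x ∈ W
    · exact not_not.1 fun hns => hgoal ⟨hbig, hns⟩
    · push Not at hbig
      obtain ⟨x, hx, hxs⟩ := hbig
      exact commute_s_u hT h hu hx hxs
  set z := s ^ 2 with hz
  have hzc : ∀ a, Commute a z := h.commute_z hT
  have hz1 : z ≠ 1 := h.sq_ne
  have hz2 : z ^ 2 = 1 := h.z_sq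
  have hz_inv : z⁻¹ = z := inv_eq_of_mul_eq_one_right (by rw [← sq]; exact hz2)
  have hu2 : u ^ 2 = 1 := hu.sq
  have huu : u * u = 1 := by rw [← sq]; exact hu2
  have hsW : ∀ w, w ∈ W → Commute s w := fun w hw => commute_four hT h hu hsu hw
  have hssq : ∀ a, s⁻¹ * a ∈ W → a ^ 2 = z := by
    intro a ha
    have hcm := hsW _ ha
    rw [show a = s * (s⁻¹ * a) by group, hcm.mul_pow, four_sq hT h hu ha, mul_one]
  have huz2 : (u * z) ^ 2 = 1 := by rw [(hzc u).mul_pow, hu2, hz2, one_mul]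
  have huz1 : u * z ≠ 1 := fun e => hu.ne_z (by rw [eq_inv_of_mul_eq_one_left e, hz_inv])
  have huzz : u * z ≠ z := fun e => hu.ne_one (mul_eq_right.1 e)
  have hsuz : Commute s (u * z) := hsu.mul_right (hzc s)
  have hinvT : Inv φ (commutator ↥(S : Subgroup A)) := by
    have hle : commutator ↥(S : Subgroup A) ≤ (commutator ↥(S : Subgroup A)).comap φ.toMonoidHom := by
      rw [← Subgroup.map_le_iff_le_comap, _root_.commutator_def, Subgroup.map_commutator]
      exact Subgroup.commutator_mono le_top le_top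
    exact fun a ha => hle ha
  by_cases hout : ∃ v, v ^ 2 = 1 ∧ v ∉ W
  · obtain ⟨v, hv2, hv⟩ := hout
    have hvv : v * v = 1 := by rw [← sq]; exact hv2
    have hvi : v⁻¹ = v := inv_eq_of_mul_eq_one_right hvv
    obtain ⟨hnot, hgen, m, hm⟩ := coset_gen hT h hu (v := v) (by rw [hv2]; exact one_mem _) hv
      (fun hvs => hz1 (by rw [← hssq v hvs, hv2]))
    set x := v * φ v with hx
    have hφvv : φ v * φ v = 1 := by rw [← map_mul, hvv, map_one]
    have hvx : v * x * v⁻¹ = x⁻¹ := by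
      rw [hx, mul_inv_rev, hvi, inv_eq_of_mul_eq_one_right hφvv, ← mul_assoc v v, hvv, one_mul]
    have hxu : Commute x u := by
      refine mul_inv_eq_iff_eq_mul.1 ?_
      rw [hx, show v * φ v * u * (v * φ v)⁻¹ = v * (φ v * u * (φ v)⁻¹) * v⁻¹ by group]
      have hzv : v * z * v⁻¹ = z := by rw [(hzc v).eq, mul_inv_cancel_right]
      have hφ : ∀ e, v * u * v⁻¹ = e → φ v * u * (φ v)⁻¹ = φ e * z := by
        intro e he
        rw [← he, map_mul, map_mul, map_inv, hu.map]
        calc φ v * u * (φ v)⁻¹ = φ v * u * (φ v)⁻¹ * (z * z) := by rw [← sq, hz2, mul_one]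
          _ = φ v * u * ((φ v)⁻¹ * z) * z := by group
          _ = φ v * u * (z * (φ v)⁻¹) * z := by rw [(hzc (φ v)⁻¹).eq]
          _ = φ v * (u * z) * (φ v)⁻¹ * z := by group
      rcases hu.conj v with h1 | h1
      · rw [hφ u h1, hu.map, mul_assoc u, ← sq, hz2, mul_one, h1]
      · rw [hφ _ h1, map_mul, hu.map, h.map_z, mul_assoc u z z, ← sq, hz2, mul_one, ← conj_mul, h1,
          hzv, mul_assoc, ← sq, hz2, mul_one]
    have hxm : x ^ (2 ^ (m + 1)) = z := by rw [pow_succ, pow_mul, hssq _ hm]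
    have hzx : z ∈ zpowers x := by rw [← hxm]; exact pow_mem (mem_zpowers x) _
    have huX : u ∉ zpowers x := fun h1 =>
      hu.ne_z (eq_of_involutions_zpowers hT h1 hzx hu2 hz2 hu.ne_one hz1)
    have hform : ∀ a, ∃ i : ℤ, a = x ^ i ∨ a = u * x ^ i ∨ a = v * x ^ i ∨ a = v * u * x ^ i := by
      have hW' : ∀ w, w ∈ W → ∃ i : ℤ, w = x ^ i ∨ w = u * x ^ i := by
        intro w hw
        rw [mem_four] at hw
        obtain ⟨j, hj⟩ := hzx
        simp only at hj
        rcases hw with rfl | rfl | rfl | rfl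
        exacts [⟨0, Or.inl (zpow_zero x).symm⟩, ⟨j, Or.inl hj.symm⟩, ⟨0, Or.inr (by simp)⟩,
          ⟨j, Or.inr (by rw [hj])⟩]
      intro a
      obtain ⟨i, hi | hi⟩ := hgen a <;> obtain ⟨j, hj | hj⟩ := hW' _ hi <;>
        rw [inv_mul_eq_iff_eq_mul] at hj <;> refine ⟨i + j, ?_⟩
      · exact Or.inl (by rw [hj, zpow_add])
      · exact Or.inr (Or.inl (by
          rw [hj, ← mul_assoc, (hxu.zpow_left i).eq, mul_assoc, zpow_add]))
      · exact Or.inr (Or.inr (Or.inl (by rw [hj, mul_assoc, zpow_add])))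
      · exact Or.inr (Or.inr (Or.inr (by
          rw [hj, mul_assoc v, ← mul_assoc (x ^ i), (hxu.zpow_left i).eq, mul_assoc u, zpow_add]
          group)))
    have hvn : ∀ i : ℤ, v ≠ x ^ i ∧ v ≠ u * x ^ i := by
      refine fun i => ⟨fun e => hnot i ?_, fun e => hnot i ?_⟩
      · have h1 : (x ^ i)⁻¹ * v = 1 := by rw [← e]; exact inv_mul_cancel v
        rw [h1]; exact one_mem _
      · have h1 : (x ^ i)⁻¹ * v = u := by rw [e, ← (hxu.zpow_left i).eq, inv_mul_cancel_left]
        rw [h1]; exact u_mem_four hT h hu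
    have hvu : v * u * v⁻¹ * u = 1 ∨ v * u * v⁻¹ * u = z := by
      rcases hu.conj v with h1 | h1 <;> rw [h1]
      · exact Or.inl huu
      · right; rw [(hzc u).eq, mul_assoc, huu, mul_one]
    have hsq : ∀ a : ↥(S : Subgroup A), (a ^ 2) ^ 2 = 1 → a ^ 2 ≠ 1 → a ^ 2 = z := by
      intro a h4 h2
      obtain ⟨i, hi | hi | hi | hi⟩ := hform a
      · exact eq_of_involutions_zpowers hT (by rw [hi]; exact pow_mem (zpow_mem (mem_zpowers x) i) 2)
          hzx h4 hz2 h2 hz1
      · refine eq_of_involutions_zpowers hT ?_ hzx h4 hz2 h2 hz1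
        rw [hi, ((hxu.zpow_left i).symm).mul_pow, hu2, one_mul]
        exact pow_mem (zpow_mem (mem_zpowers x) i) 2
      · exfalso
        apply h2
        rw [hi, sq, show v * x ^ i * (v * x ^ i) = (v * x ^ i * v⁻¹) * (v * v) * x ^ i by group,
          ← conj_zpow, hvx, hvv, mul_one, inv_zpow, inv_mul_cancel]
      · have e1 : a ^ 2 = v * u * v⁻¹ * u := by
          rw [hi, sq, show v * u * x ^ i * (v * u * x ^ i)
            = (v * u * v⁻¹) * ((v * x ^ i * v⁻¹) * (v * v)) * (u * x ^ i) by group,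
            ← conj_zpow, hvx, hvv, mul_one, inv_zpow, ← (hxu.zpow_left i).eq]
          group
        rcases hvu with h3 | h3
        · exact absurd (e1.trans h3) h2
        · exact e1.trans h3
    have hnu : ¬ Fus u z := not_fus_z hzc hz1 hz2 hsq hsu rfl hu.ne_z
    by_cases hvcu : Commute v u
    · have huc : ∀ a, Commute a u := by
        intro a
        obtain ⟨i, hi | hi | hi | hi⟩ := hform a <;> subst hi
        exacts [hxu.zpow_left i, (Commute.refl u).mul_left (hxu.zpow_left i),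
          hvcu.mul_left (hxu.zpow_left i),
          (hvcu.mul_left (Commute.refl u)).mul_left (hxu.zpow_left i)]
      have hjx : x ^ (2 * ((2 : ℤ) ^ m)) = z := by
        rw [← hxm, ← zpow_natCast]
        congr 1
        push_cast
        ring
      refine rank_three_absurd hperf hT hzc huc hu2 hz2 hv2 hz1 hu.ne_one hu.ne_z hvx
        ⟨_, hjx⟩ hform hvn hnu (not_fus_z hzc hz1 hz2 hsq hsuz rfl huzz) ?_
      -- `z` is the involution of the cyclic derived group
      have hle : ⁅(⊤ : Subgroup ↥(S : Subgroup A)), ⊤⁆ ≤ zpowers x := by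
        haveI hXn : (zpowers x).Normal := ⟨fun d hd a => by
          obtain ⟨i, hi | hi | hi | hi⟩ := hform a <;> subst hi <;> obtain ⟨l, rfl⟩ := hd <;>
            simp only
          · refine ⟨l, ?_⟩; simp only; group
          · refine ⟨l, ?_⟩; simp only
            rw [show u * x ^ i * x ^ l * (u * x ^ i)⁻¹ = u * x ^ l * u⁻¹ by group,
              ← (hxu.zpow_left l).eq, mul_inv_cancel_right]
          · refine ⟨-l, ?_⟩; simp only
            rw [show v * x ^ i * x ^ l * (v * x ^ i)⁻¹ = v * x ^ l * v⁻¹ by group, ← conj_zpow, hvx,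
              inv_zpow, zpow_neg]
          · refine ⟨-l, ?_⟩; simp only
            rw [show v * u * x ^ i * x ^ l * (v * u * x ^ i)⁻¹ = v * (u * x ^ l * u⁻¹) * v⁻¹ by group,
              ← (hxu.zpow_left l).eq, mul_inv_cancel_right, ← conj_zpow, hvx, inv_zpow, zpow_neg]⟩
        set q := QuotientGroup.mk' (zpowers x) with hqdef
        have hqx : q x = 1 := (QuotientGroup.eq_one_iff x).2 (mem_zpowers x)
        have hgens : ∀ a, q a = 1 ∨ q a = q u ∨ q a = q v ∨ q a = q (v * u) := by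
          intro a
          obtain ⟨i, hi | hi | hi | hi⟩ := hform a <;> subst hi <;>
            simp [map_mul, map_zpow, hqx]
        have hvu' : Commute (q v) (q u) := hvcu.map q
        rw [Subgroup.commutator_le]
        intro a _ b _
        rw [← QuotientGroup.eq_one_iff]
        show q ⁅a, b⁆ = 1
        rw [map_commutatorElement, commutatorElement_eq_one_iff_commute]
        rcases hgens a with ha | ha | ha | ha <;> rcases hgens b with hb | hb | hb | hb <;>
          rw [ha, hb] <;>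
          first
            | exact Commute.one_left _
            | exact Commute.one_right _
            | exact Commute.refl _
            | exact hvu'
            | exact hvu'.symm
            | (rw [map_mul]; first
                | exact (Commute.refl _).mul_right hvu'
                | exact hvu'.symm.mul_right (Commute.refl _)
                | exact ((Commute.refl _).mul_right hvu').symm
                | exact (hvu'.symm.mul_right (Commute.refl _)).symm)
      refine not_fus_of_fixed huc (fun a => (huc a).mul_right (hzc a)) hz2 hz1 (fun n hn => ?_) rfl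
      have hne : commutator ↥(S : Subgroup A) ≠ ⊥ := by
        intro h0
        have hc : ⁅v, x⁆ ∈ commutator ↥(S : Subgroup A) := by
          rw [_root_.commutator_def]
          exact Subgroup.commutator_mem_commutator (mem_top v) (mem_top x)
        rw [h0, Subgroup.mem_bot, commutatorElement_eq_one_iff_commute] at hc
        have hxx : x * x = 1 := by
          have := hvx
          rw [hc.eq, mul_inv_cancel_right] at this
          nth_rw 2 [this]
          exact mul_inv_cancel x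
        refine hz1 ?_
        rw [← hxm, pow_succ', pow_mul, sq, hxx, one_pow]
      have hzC : z ∈ commutator ↥(S : Subgroup A) := h.z_mem hT hinvT hne
      have hmemA : (z : A) ∈ ⁅(S : Subgroup A), (S : Subgroup A)⁆ := by
        rw [← map_subtype_commutator]; exact mem_map_of_mem _ hzC
      have hnS : (S : Subgroup A).map (MulAut.conj n).toMonoidHom = (S : Subgroup A) := by
        ext a
        constructor
        · rintro ⟨b, hb, rfl⟩; exact (Subgroup.mem_normalizer_iff.1 hn b).1 hb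
        · intro ha
          refine ⟨n⁻¹ * a * n, ?_, by simp [mul_assoc]⟩
          refine (Subgroup.mem_normalizer_iff.1 hn _).2 ?_
          simpa [mul_assoc] using ha
      have hnz : n * (z : A) * n⁻¹ ∈ ⁅(S : Subgroup A), (S : Subgroup A)⁆ := by
        have := mem_map_of_mem (MulAut.conj n).toMonoidHom hmemA
        rwa [Subgroup.map_commutator, hnS] at this
      rw [← map_subtype_commutator] at hnz
      obtain ⟨y, hy, hye⟩ := hnz
      rw [_root_.commutator_def] at hy
      have hyz : y = z := by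
        refine eq_of_involutions_zpowers hT (hle hy) hzx ?_ hz2 ?_ hz1
        · apply Subtype.ext
          rw [Subgroup.coe_pow, show (y : A) = _ from hye, conj_pow, ← Subgroup.coe_pow, hz2]
          simp
        · rintro rfl
          exact hz1 (Subtype.ext (conj_eq_one_iff.1 (hye.symm.trans rfl)))
      rw [← hye, hyz]; rfl
    · have hvu'' : v * u * v⁻¹ = u * z :=
        (hu.conj v).resolve_left fun e => hvcu (mul_inv_eq_iff_eq_mul.1 e)
      set w := v * u with hw
      have hww : w * w = z := by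
        rw [hw, show v * u * (v * u) = (v * u * v⁻¹) * (v * v) * u by group, hvu'', hvv, mul_one,
          (hzc u).eq, mul_assoc, huu, mul_one]
      have hwx : w * x * w⁻¹ = x⁻¹ := by
        rw [hw, show v * u * x * (v * u)⁻¹ = v * (u * x * u⁻¹) * v⁻¹ by group, ← hxu.eq,
          mul_inv_cancel_right, hvx]
      set M := twoCosets x w (hww ▸ hzx) (hwx ▸ inv_mem (mem_zpowers x)) with hM
      have huM : u ∉ M := by
        rintro (h1 | h1)
        · exact huX h1
        · obtain ⟨i, hi⟩ := h1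
          simp only at hi
          obtain ⟨j, hj⟩ := hzx
          simp only at hj
          refine (hvn (i + j)).1 ?_
          have h2 : w⁻¹ = u * v := by
            rw [hw, mul_inv_rev, hvi, inv_eq_of_mul_eq_one_right huu]
          rw [h2] at hi
          have h4 : v * u = u * z * v := mul_inv_eq_iff_eq_mul.1 hvu''
          have h5 : u * v * u = z * v := by
            rw [mul_assoc, h4, ← mul_assoc, ← mul_assoc, huu, one_mul]
          rw [h5] at hi
          rw [zpow_add, hi, hj, (hzc (z * v)).eq, ← mul_assoc, ← sq, hz2, one_mul]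
      have hcov : ∀ b, b ∈ M ∨ u⁻¹ * b ∈ M := by
        intro b
        obtain ⟨i, hi | hi | hi | hi⟩ := hform b <;> subst hi
        · exact Or.inl (Or.inl ⟨i, rfl⟩)
        · exact Or.inr (Or.inl ⟨i, by simp⟩)
        · right; right
          show w⁻¹ * (u⁻¹ * (v * x ^ i)) ∈ zpowers x
          have h3 : w⁻¹ * u⁻¹ * v = z := by
            rw [hw, mul_inv_rev, inv_eq_of_mul_eq_one_right huu, hvi,
              show u * v * u * v = u * (v * u * v⁻¹) * (v * v) by group, hvu'', hvv, mul_one,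
              ← mul_assoc, huu, one_mul]
          rw [show w⁻¹ * (u⁻¹ * (v * x ^ i)) = w⁻¹ * u⁻¹ * v * x ^ i by group, h3]
          exact mul_mem hzx ⟨i, rfl⟩
        · exact Or.inl (Or.inr (by rw [inv_mul_cancel_left]; exact ⟨i, rfl⟩))
      obtain ⟨p, hp, hup⟩ := thompson hperf huM hcov hu2 huM
      rcases hp with hp | hp
      · exact hnu (eq_of_involutions_zpowers hT hzx hp hz2 (hup.sq_eq hu2) hz1
          (hup.ne_one hu.ne_one) ▸ hup)
      · obtain ⟨i, hi⟩ := hp
        simp only at hi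
        refine hz1 ?_
        have hp2 := hup.sq_eq hu2
        rw [show p = w * x ^ i by rw [hi, mul_inv_cancel_left], sq,
          show w * x ^ i * (w * x ^ i) = (w * x ^ i * w⁻¹) * (w * w) * x ^ i by group, ← conj_zpow,
          hwx, hww, inv_zpow, ← ((hzc (x ^ i)).inv_left).symm.eq, mul_assoc, inv_mul_cancel,
          mul_one] at hp2
        exact hp2
  push Not at hout
  have hsqW : ∀ a : ↥(S : Subgroup A), (a ^ 2) ^ 2 = 1 → a ^ 2 ∈ W := fun a ha => hout _ ha
  obtain ⟨-, y, -, -, hcase⟩ := quotient_shape hT h hu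
  by_cases hex : ∃ y₀, y₀ ^ 2 = u
  · obtain ⟨y₀, hy₀⟩ := hex
    have hy₀W : y₀ ∉ W := fun e => hu.ne_one (by rw [← hy₀]; exact four_sq hT h hu e)
    obtain ⟨hnot, hgen, -⟩ := coset_gen hT h hu (v := y₀) (by rw [hy₀]; exact u_mem_four hT h hu)
      hy₀W (fun e => hu.ne_z ((hy₀ ▸ hssq _ e : u = z)))
    set x := y₀ * φ y₀ with hx
    have hcy : Commute y₀ u := by rw [← hy₀]; exact (Commute.refl y₀).pow_right 2
    have hφy : (φ y₀) ^ 2 = u * z := by rw [← map_pow, hy₀, hu.map]
    have hcφ : Commute (φ y₀) u := by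
      have h1 : Commute (φ y₀) (u * z) := hφy ▸ (Commute.refl (φ y₀)).pow_right 2
      have h2 := h1.mul_right (hzc (φ y₀))
      rwa [mul_assoc, ← sq, hz2, mul_one] at h2
    have hxu : Commute x u := hcy.mul_left hcφ
    have hWu : ∀ w, w ∈ W → Commute w u := fun w hw =>
      (commute_four hT h hu (Commute.refl u) hw).symm
    have huc : ∀ a, Commute a u := by
      intro a
      obtain ⟨i, hi | hi⟩ := hgen a
      · have := (hxu.zpow_left i).mul_left (hWu _ hi)
        rwa [mul_inv_cancel_left] at this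
      · have := (hcy.mul_left (hxu.zpow_left i)).mul_left (hWu _ hi)
        rwa [mul_inv_cancel_left] at this
    by_cases hab : ∀ a b : ↥(S : Subgroup A), a * b = b * a
    · -- homocyclic of exponent four
      have hcom : Commute y₀ (φ y₀) := hab _ _
      let f : Multiplicative (ZMod (2 ^ 2) × ZMod (2 ^ 2)) → ↥(S : Subgroup A) := fun p =>
        y₀ ^ (Multiplicative.toAdd p).1.val * (φ y₀) ^ (Multiplicative.toAdd p).2.val
      have hy4 : y₀ ^ 4 = 1 := by rw [show 4 = 2 * 2 from rfl, pow_mul, hy₀, hu2]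
      have hφ4 : (φ y₀) ^ 4 = 1 := by rw [← map_pow, hy4, map_one]
      have hpow : ∀ {c : ↥(S : Subgroup A)}, c ^ 4 = 1 → ∀ a b : ZMod (2 ^ 2),
          c ^ (a + b).val = c ^ a.val * c ^ b.val := by
        intro c hc a b
        rw [← pow_add, ZMod.val_add, ← pow_mod_orderOf c (a.val + b.val), ← pow_mod_orderOf]
        have hd : orderOf c ∣ 2 ^ 2 := orderOf_dvd_of_pow_eq_one (by simpa using hc)
        rw [Nat.mod_mod_of_dvd _ hd]
      let F : Multiplicative (ZMod (2 ^ 2) × ZMod (2 ^ 2)) →* ↥(S : Subgroup A) :=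
        { toFun := f
          map_one' := by simp [f]
          map_mul' := fun p q => by
            simp only [f, toAdd_mul, Prod.fst_add, Prod.snd_add, hpow hy4, hpow hφ4]
            exact (hcom.pow_pow _ _).mul_mul_mul_comm _ _ }
      have hinj : Function.Injective F := by
        rw [← MonoidHom.ker_eq_bot_iff, eq_bot_iff]
        intro p hp
        obtain ⟨a, b⟩ := p
        have h1 : y₀ ^ a.val * (φ y₀) ^ b.val = 1 := hp
        have ha4 := ZMod.val_lt a
        have hb4 := ZMod.val_lt b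
        have h2 : u ^ a.val * (u * z) ^ b.val = 1 := by
          rw [← hφy, ← hy₀, ← pow_mul, ← pow_mul, mul_comm 2, mul_comm 2, pow_mul, pow_mul,
            ← (hcom.pow_pow _ _).mul_pow, h1, one_pow]
        suffices a.val = 0 ∧ b.val = 0 by
          refine Subgroup.mem_bot.2 ?_
          exact congrArg Multiplicative.ofAdd
            (Prod.ext ((ZMod.val_eq_zero a).1 this.1) ((ZMod.val_eq_zero b).1 this.2))
        generalize a.val = i at *
        generalize b.val = j at *
        have hpar : ∀ i j : ℕ, u ^ i * (u * z) ^ j = 1 → Even i ∧ Even j := by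
          intro i j hij
          rcases Nat.even_or_odd i with ⟨p, rfl⟩ | ⟨p, rfl⟩ <;>
            rcases Nat.even_or_odd j with ⟨q, rfl⟩ | ⟨q, rfl⟩ <;>
            simp only [← two_mul, pow_add, pow_mul, hu2, huz2, one_pow, one_mul, mul_one, pow_one]
              at hij ⊢
          · exact ⟨even_two_mul p, even_two_mul q⟩
          · exact absurd hij huz1
          · exact absurd hij hu.ne_one
          · rw [← mul_assoc, huu, one_mul] at hij; exact absurd hij hz1
        obtain ⟨⟨p, rfl⟩, ⟨q, rfl⟩⟩ := hpar i j h2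
        rw [← two_mul, ← two_mul, pow_mul, pow_mul, hy₀, hφy] at h1
        obtain ⟨⟨p', rfl⟩, ⟨q', rfl⟩⟩ := hpar p q h1
        constructor <;> omega
      have hsurj : Function.Surjective F := by
        have hrange : ∀ a, a ∈ F.range := by
          have hy : y₀ ∈ F.range := ⟨Multiplicative.ofAdd (1, 0), by
            show y₀ ^ (1 : ZMod (2 ^ 2)).val * (φ y₀) ^ (0 : ZMod (2 ^ 2)).val = y₀
            simp [show (1 : ZMod (2 ^ 2)).val = 1 from rfl]⟩
          have hφ' : φ y₀ ∈ F.range := ⟨Multiplicative.ofAdd (0, 1), by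
            show y₀ ^ (0 : ZMod (2 ^ 2)).val * (φ y₀) ^ (1 : ZMod (2 ^ 2)).val = φ y₀
            simp [show (1 : ZMod (2 ^ 2)).val = 1 from rfl]⟩
          have hu' : u ∈ F.range := hy₀ ▸ pow_mem hy 2
          have hz' : z ∈ F.range := by
            rw [show z = u * (u * z) by rw [← mul_assoc, huu, one_mul], ← hφy]
            exact mul_mem hu' (pow_mem hφ' 2)
          have hW' : ∀ w, w ∈ W → w ∈ F.range := by
            intro w hw
            rw [mem_four] at hw
            rcases hw with rfl | rfl | rfl | rfl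
            exacts [one_mem _, hz', hu', mul_mem hu' hz']
          have hx' : x ∈ F.range := mul_mem hy hφ'
          intro a
          obtain ⟨i, hi | hi⟩ := hgen a
          · have := mul_mem (zpow_mem hx' i) (hW' _ hi); rwa [mul_inv_cancel_left] at this
          · have := mul_mem (mul_mem hy (zpow_mem hx' i)) (hW' _ hi)
            rwa [mul_inv_cancel_left] at this
        exact fun a => hrange a
      exact homocyclic_absurd hperf hsol (MulEquiv.ofBijective F ⟨hinj, hsurj⟩).symm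
    -- the normalizer fixes `z`
    obtain ⟨c, hc⟩ := derived_cyclic hT h hu hcase huc
    have hne : commutator ↥(S : Subgroup A) ≠ ⊥ := fun h0 => hab fun a b => by
      have : ⁅a, b⁆ ∈ commutator ↥(S : Subgroup A) := by
        rw [_root_.commutator_def]
        exact Subgroup.commutator_mem_commutator (mem_top a) (mem_top b)
      rw [h0, Subgroup.mem_bot, commutatorElement_eq_one_iff_commute] at this
      exact this
    have hzC : z ∈ commutator ↥(S : Subgroup A) := h.z_mem hT hinvT hne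
    have hfix := normalizer_fixes hT hz2 hz1 hzC hc
    have hnu : ∀ a, (∀ b, Commute b a) → a ≠ z → ¬ Fus a z := by
      intro a ha hne' hf
      obtain ⟨n, hn, hne⟩ := exists_normalizer_of_fus ha hzc hf
      refine hne' (Subtype.ext (mul_left_cancel (a := n) (mul_right_cancel (b := n⁻¹) ?_)))
      rw [hne, hfix n hn]
    exact central_absurd hperf hsol hT h hu hcase hout (hnu u huc hu.ne_z)
      (hnu _ (fun b => (huc b).mul_right (hzc b)) huzz)
  push Not at hex
  have hsq : ∀ a : ↥(S : Subgroup A), (a ^ 2) ^ 2 = 1 → a ^ 2 ≠ 1 → a ^ 2 = z := by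
    intro a h4 h2
    have := hsqW a h4
    rw [mem_four] at this
    rcases this with e | e | e | e
    · exact absurd e h2
    · exact e
    · exact absurd e (hex a)
    · exfalso
      refine hex (φ a) ?_
      rw [← map_pow, e, map_mul, hu.map, h.map_z, mul_assoc, ← sq, hz2, mul_one]
  exact central_absurd hperf hsol hT h hu hcase hout (not_fus_z hzc hz1 hz2 hsq hsu rfl hu.ne_z)
    (not_fus_z hzc hz1 hz2 hsq hsuz rfl huzz)

end Main

end CfsgLib.CyclicFourFix
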