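import Cfsg.Agent.Lib.CyclicFourFix.Shape

/-!
The structure of a 2-group with an involutory automorphism fixing a cyclic group of order four and
a normal invariant four group `W`: modulo `W` the automorphism fixes two elements.
-/

set_option autoImplicit false
set_option linter.style.haveILetI false
set_option linter.unusedSectionVars false

namespace CfsgLib.CyclicFourFix

open Subgroup

variable {T : Type*} [Group T]

/-- A subgroup `C ∪ wC` for a cyclic `C = ⟨c⟩` normalized by `w` with `w ^ 2 ∈ C`. -/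
def twoCosets [Finite T] (c w : T) (hw2 : w * w ∈ zpowers c) (hwc : w * c * w⁻¹ ∈ zpowers c) :
    Subgroup T :=
  haveI hC : ∀ a ∈ zpowers c, w⁻¹ * a * w ∈ zpowers c := by
    rintro _ ⟨i, rfl⟩
    obtain ⟨j, hj⟩ := hw2
    obtain ⟨k, hk⟩ := hwc
    simp only at hj hk ⊢
    have h2 : w⁻¹ * c * w = c ^ k := by
      rw [show w⁻¹ * c * w = (w * w)⁻¹ * (w * c * w⁻¹) * (w * w) by group, ← hj, ← hk]
      group
    rw [show w⁻¹ * c ^ i * w = w⁻¹ * c ^ i * w⁻¹⁻¹ by rw [inv_inv], ← conj_zpow, inv_inv, h2]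
    exact zpow_mem (zpow_mem (mem_zpowers c) _) _
  subgroupOfIdempotent
    {x | x ∈ zpowers c ∨ w⁻¹ * x ∈ zpowers c}
    ⟨1, Or.inl (one_mem _)⟩
    (by
      refine Set.Subset.antisymm ?_ (fun x hx => ⟨1, Or.inl (one_mem _), x, hx, one_mul x⟩)
      rintro _ ⟨a, ha, b, hb, rfl⟩
      rcases ha with ha | ha <;> rcases hb with hb | hb
      · exact Or.inl (mul_mem ha hb)
      · right
        show w⁻¹ * (a * b) ∈ zpowers c
        rw [show w⁻¹ * (a * b) = (w⁻¹ * a * w) * (w⁻¹ * b) by group]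
        exact mul_mem (hC a ha) hb
      · right
        show w⁻¹ * (a * b) ∈ zpowers c
        rw [← mul_assoc]
        exact mul_mem ha hb
      · left
        show a * b ∈ zpowers c
        rw [show a * b = (w * w) * (w⁻¹ * (w⁻¹ * a) * w) * (w⁻¹ * b) by group]
        exact mul_mem (mul_mem hw2 (hC _ ha)) hb)

theorem mem_twoCosets [Finite T] {c w : T} (hw2 : w * w ∈ zpowers c)
    (hwc : w * c * w⁻¹ ∈ zpowers c) {x : T} :
    x ∈ twoCosets c w hw2 hwc ↔ x ∈ zpowers c ∨ w⁻¹ * x ∈ zpowers c := Iff.rfl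

/-- A subgroup with two cosets has index two. -/
theorem index_two_of_cover {M : Subgroup T} {e : T} (he : e ∉ M)
    (hcov : ∀ b, b ∈ M ∨ e⁻¹ * b ∈ M) : M.index = 2 := by
  rw [Subgroup.index_eq_two_iff]
  refine ⟨e⁻¹, fun b => ?_⟩
  have hcov' : ∀ b, b ∈ M ∨ b * e⁻¹ ∈ M := by
    intro b
    rcases hcov b⁻¹ with h | h
    · exact Or.inl (inv_mem_iff.1 h)
    · rcases hcov e⁻¹ with h1 | h1
      · exact absurd (inv_mem_iff.1 h1) he
      · right
        have h2 : b * e ∈ M := by simpa using inv_mem h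
        have h3 := mul_mem h2 h1
        rwa [show b * e * (e⁻¹ * e⁻¹) = b * e⁻¹ by group] at h3
  by_cases hb : b ∈ M
  · exact Or.inr ⟨hb, fun h => he (inv_mem_iff.1 ((Subgroup.mul_mem_cancel_left M hb).1 h))⟩
  · exact Or.inl ⟨(hcov' b).resolve_left hb, hb⟩

/-- Two involutions in one cyclic group are equal. -/
theorem eq_of_involutions_zpowers [Finite T] (hT : IsPGroup 2 T) {c a b : T} (ha : a ∈ zpowers c)
    (hb : b ∈ zpowers c) (ha2 : a ^ 2 = 1) (hb2 : b ^ 2 = 1) (ha1 : a ≠ 1) (hb1 : b ≠ 1) :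
    a = b := by
  obtain ⟨n, hn⟩ := IsPGroup.iff_orderOf.1 hT c
  obtain ⟨i, rfl⟩ := ha
  obtain ⟨j, rfl⟩ := hb
  simp only at ha2 hb2 ha1 hb1 ⊢
  rw [(zpow_sq_eq_one hn ha2).resolve_left ha1, (zpow_sq_eq_one hn hb2).resolve_left hb1]

section Four

variable [Finite T] {φ : T ≃* T} {s u : T} (hT : IsPGroup 2 T) (h : FixFour φ s)
  (hu : FourNormal φ (s ^ 2) u)
include hT h hu

/-- Membership in the four group. -/
def InW (s u x : T) : Prop := x = 1 ∨ x = s ^ 2 ∨ x = u ∨ x = u * s ^ 2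

/-- The four group. -/
def fourSubgroup : Subgroup T :=
  subgroupOfIdempotent {x | InW s u x} ⟨1, Or.inl rfl⟩ (by
    have huz : Commute u (s ^ 2) := h.commute_z hT u
    have e1 : s ^ 2 * (s ^ 2) = 1 := by rw [← sq]; exact h.z_sq
    have e2 : u * u = 1 := by rw [← sq]; exact hu.sq
    have e3 : s ^ 2 * u = u * s ^ 2 := huz.eq.symm
    have e4 : s ^ 2 * (u * s ^ 2) = u := by rw [← mul_assoc, e3, mul_assoc, e1, mul_one]
    have e5 : u * (u * s ^ 2) = s ^ 2 := by rw [← mul_assoc, e2, one_mul]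
    have e6 : u * s ^ 2 * s ^ 2 = u := by rw [mul_assoc, e1, mul_one]
    have e7 : u * s ^ 2 * u = s ^ 2 := by rw [mul_assoc, e3, e5]
    have e8 : u * s ^ 2 * (u * s ^ 2) = 1 := by rw [← mul_assoc, e7, e1]
    refine Set.Subset.antisymm ?_ (fun x hx => ⟨1, Or.inl rfl, x, hx, one_mul x⟩)
    rintro _ ⟨a, ha, b, hb, rfl⟩
    show InW s u (a * b)
    rcases ha with rfl | rfl | rfl | rfl <;> rcases hb with rfl | rfl | rfl | rfl <;>
      simp only [InW, one_mul, mul_one, e1, e2, e3, e4, e5, e6, e7, e8, true_or, or_true])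

theorem mem_four {x : T} : x ∈ fourSubgroup hT h hu ↔ InW s u x := Iff.rfl

theorem z_mem_four : s ^ 2 ∈ fourSubgroup hT h hu := Or.inr (Or.inl rfl)

theorem u_mem_four : u ∈ fourSubgroup hT h hu := Or.inr (Or.inr (Or.inl rfl))

theorem four_normal : (fourSubgroup hT h hu).Normal := by
  constructor
  intro x hx g
  rw [mem_four] at hx
  have hz : g * s ^ 2 * g⁻¹ = s ^ 2 := by rw [(h.commute_z hT g).eq, mul_inv_cancel_right]
  rcases hx with rfl | rfl | rfl | rfl
  · simp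
  · rw [hz]; exact z_mem_four hT h hu
  · rcases hu.conj g with h' | h' <;> rw [h']
    exacts [u_mem_four hT h hu, mul_mem (u_mem_four hT h hu) (z_mem_four hT h hu)]
  · rw [← conj_mul, hz]
    rcases hu.conj g with h' | h' <;> rw [h']
    exacts [mul_mem (u_mem_four hT h hu) (z_mem_four hT h hu),
      mul_mem (mul_mem (u_mem_four hT h hu) (z_mem_four hT h hu)) (z_mem_four hT h hu)]

theorem four_sq {x : T} (hx : x ∈ fourSubgroup hT h hu) : x ^ 2 = 1 := by
  rw [mem_four] at hx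
  rcases hx with rfl | rfl | rfl | rfl
  exacts [one_pow 2, h.z_sq, hu.sq,
    by rw [(show Commute u (s ^ 2) from h.commute_z hT u).mul_pow, hu.sq, h.z_sq, one_mul]]

theorem four_map {x : T} (hx : x ∈ fourSubgroup hT h hu) : φ x ∈ fourSubgroup hT h hu := by
  rw [mem_four] at hx
  rcases hx with rfl | rfl | rfl | rfl
  · rw [map_one]; exact one_mem _
  · rw [h.map_z]; exact z_mem_four hT h hu
  · rw [hu.map]; exact mul_mem (u_mem_four hT h hu) (z_mem_four hT h hu)
  · rw [map_mul, hu.map, h.map_z]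
    exact mul_mem (mul_mem (u_mem_four hT h hu) (z_mem_four hT h hu)) (z_mem_four hT h hu)

theorem s_notMem_four : s ∉ fourSubgroup hT h hu := fun h' => h.sq_ne (four_sq hT h hu h')

theorem u_ne_uz : u ≠ u * s ^ 2 := fun h' => h.sq_ne (left_eq_mul.1 h')

theorem commute_four {g x : T} (hg : Commute g u) (hx : x ∈ fourSubgroup hT h hu) : Commute g x := by
  rw [mem_four] at hx
  rcases hx with rfl | rfl | rfl | rfl
  exacts [Commute.one_right g, h.commute_z hT g, hg, hg.mul_right (h.commute_z hT g)]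

theorem fixed_mod {x : T} (hx : x⁻¹ * φ x ∈ fourSubgroup hT h hu) :
    x ∈ fourSubgroup hT h hu ∨ s⁻¹ * x ∈ fourSubgroup hT h hu := by
  set w := x⁻¹ * φ x with hw
  have hwi : w⁻¹ = w := inv_eq_of_mul_eq_one_right (by rw [← sq]; exact four_sq hT h hu hx)
  have hwf : φ w = w := by
    have h1 : φ w = w⁻¹ := by rw [hw, map_mul, map_inv, h.invol, mul_inv_rev, inv_inv]
    rwa [hwi] at h1
  have key : ∀ e, e ∈ zpowers s → e ∈ fourSubgroup hT h hu ∨ s⁻¹ * e ∈ fourSubgroup hT h hu := by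
    rintro _ ⟨i, rfl⟩
    rcases Int.even_or_odd i with ⟨d, rfl⟩ | ⟨d, rfl⟩
    · left
      simp only
      rw [← two_mul, zpow_mul, zpow_two, ← sq]
      exact zpow_mem (z_mem_four hT h hu) d
    · right
      simp only
      rw [show s⁻¹ * s ^ (2 * d + 1) = (s ^ (2 : ℤ)) ^ d by group, zpow_two, ← sq]
      exact zpow_mem (z_mem_four hT h hu) d
  rcases h.fix_sq hwf (four_sq hT h hu hx) with h1 | h1
  · exact key x (h.fix x (by rw [hw, inv_mul_eq_one] at h1; exact h1.symm))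
  · have hxu : φ (x * u) = x * u := by
      have : φ x = x * s ^ 2 := by rw [← h1, hw, mul_inv_cancel_left]
      rw [map_mul, this, hu.map, mul_assoc, ← mul_assoc (s ^ 2), ← (h.commute_z hT u).eq,
        mul_assoc u, ← sq (s ^ 2), h.z_sq, mul_one]
    rcases key _ (h.fix _ hxu) with h2 | h2
    · left; exact (Subgroup.mul_mem_cancel_right _ (u_mem_four hT h hu)).1 h2
    · right
      rw [← mul_assoc] at h2
      exact (Subgroup.mul_mem_cancel_right _ (u_mem_four hT h hu)).1 h2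

/-- The shape of the quotient by the four group, lifted. -/
theorem quotient_shape : (∀ a : T, s * a * s⁻¹ * a⁻¹ ∈ fourSubgroup hT h hu) ∧ ∃ y : T,
    (∃ i : ℤ, s⁻¹ * y ^ i ∈ fourSubgroup hT h hu) ∧
    (∃ k : ℤ, Odd k ∧ (y ^ k)⁻¹ * φ y ∈ fourSubgroup hT h hu) ∧
    ((∀ a, ∃ i : ℤ, (y ^ i)⁻¹ * a ∈ fourSubgroup hT h hu) ∨
      ∃ g, (∀ i : ℤ, (y ^ i)⁻¹ * g ∉ fourSubgroup hT h hu) ∧
        (∀ a, (∃ i : ℤ, (y ^ i)⁻¹ * a ∈ fourSubgroup hT h hu) ∨
          ∃ i : ℤ, (g * y ^ i)⁻¹ * a ∈ fourSubgroup hT h hu) ∧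
        g * y * g⁻¹ * y ∈ fourSubgroup hT h hu ∧
        ∃ b : ℤ, Odd b ∧ (g * y ^ b)⁻¹ * φ g ∈ fourSubgroup hT h hu) := by
  haveI := four_normal hT h hu
  set W := fourSubgroup hT h hu with hW
  have hmap : W.map φ.toMonoidHom = W := by
    refine le_antisymm (by rintro _ ⟨a, ha, rfl⟩; exact four_map hT h hu ha) fun a ha => ?_
    exact ⟨φ a, four_map hT h hu ha, h.invol a⟩
  set ψ := QuotientGroup.congr W W φ hmap with hψ
  have hψmk : ∀ a : T, ψ (a : T ⧸ W) = ((φ a : T) : T ⧸ W) := fun a => rfl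
  have hζ1 : ((s : T) : T ⧸ W) ≠ 1 := fun e =>
    s_notMem_four hT h hu ((QuotientGroup.eq_one_iff s).1 e)
  obtain ⟨hcen, -, hζ2, y', hζy, hφy, hcase⟩ := structure_of_fix_two (hT.to_quotient W) ψ
    (fun q => by obtain ⟨a, rfl⟩ := QuotientGroup.mk_surjective q; rw [hψmk, hψmk, h.invol])
    hζ1 (by
      intro q hq
      obtain ⟨a, rfl⟩ := QuotientGroup.mk_surjective q
      rw [hψmk] at hq
      rcases fixed_mod hT h hu (QuotientGroup.eq.1 hq.symm) with h1 | h1
      · exact Or.inl ((QuotientGroup.eq_one_iff a).2 h1)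
      · exact Or.inr (QuotientGroup.eq.2 h1).symm)
  obtain ⟨y, rfl⟩ := QuotientGroup.mk_surjective y'
  have hzp : ∀ a : T, (a : T ⧸ W) ∈ zpowers (y : T ⧸ W) → ∃ i : ℤ, (y ^ i)⁻¹ * a ∈ W := by
    rintro a ⟨i, hi⟩
    exact ⟨i, QuotientGroup.eq.1 (by simpa using hi)⟩
  have hzp' : ∀ (a : T) (i : ℤ), (y ^ i)⁻¹ * a ∈ W → (a : T ⧸ W) ∈ zpowers (y : T ⧸ W) :=
    fun a i hi => ⟨i, by simpa using QuotientGroup.eq.2 hi⟩
  refine ⟨fun a => ?_, y, ?_, ?_, ?_⟩
  · rw [← QuotientGroup.eq_one_iff]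
    rw [QuotientGroup.mk_mul, QuotientGroup.mk_mul, QuotientGroup.mk_mul, QuotientGroup.mk_inv,
      QuotientGroup.mk_inv, ← (hcen (a : T ⧸ W)).eq]
    group
  · obtain ⟨i, hi⟩ := hζy
    exact ⟨i, QuotientGroup.eq.1 (by simpa using hi.symm)⟩
  · obtain ⟨k, hk⟩ := hφy
    simp only at hk
    rw [hψmk] at hk
    refine ⟨k, ?_, QuotientGroup.eq.1 (by simpa using hk)⟩
    rcases Int.even_or_odd k with ⟨e, rfl⟩ | hk'
    · exfalso
      obtain ⟨i, hi⟩ := hζy
      simp only at hi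
      have hi2 : ((s : T) : T ⧸ W) = 1 := by
        have e1 : (((y : T) : T ⧸ W) ^ i) ^ 2 = 1 := by rw [hi]; exact hζ2
        have e2 : ψ ((s : T) : T ⧸ W) = 1 := by
          rw [← hi, map_zpow, hψmk, ← hk, ← zpow_mul, ← two_mul, mul_comm (2 * e) i, ← mul_assoc,
            zpow_mul, zpow_mul, show (2 : ℤ) = ((2 : ℕ) : ℤ) from rfl, zpow_natCast, e1, one_zpow]
        rw [← map_one ψ] at e2
        exact ψ.injective e2
      exact hζ1 hi2
    · exact hk'
  · rcases hcase with hall | ⟨g', hg', hcov, hinv, -, b, hb, hbg⟩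
    · exact Or.inl fun a => hzp a (hall _)
    obtain ⟨g, rfl⟩ := QuotientGroup.mk_surjective g'
    refine Or.inr ⟨g, fun i hi => hg' (hzp' g i hi), fun a => ?_, ?_, b, hb, ?_⟩
    · by_cases ha : (a : T ⧸ W) ∈ zpowers (y : T ⧸ W)
      · exact Or.inl (hzp a ha)
      · right
        obtain ⟨i, hi⟩ := hcov _ ha
        simp only at hi
        refine ⟨i, QuotientGroup.eq.1 ?_⟩
        rw [QuotientGroup.mk_mul, QuotientGroup.mk_zpow, hi, mul_inv_cancel_left]
    · rw [← QuotientGroup.eq_one_iff, QuotientGroup.mk_mul, QuotientGroup.mk_mul,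
        QuotientGroup.mk_mul, QuotientGroup.mk_inv, hinv, inv_mul_cancel]
    · rw [hψmk] at hbg
      exact QuotientGroup.eq.1 (by simpa using hbg.symm)

/-- Outside the cosets `W` and `sW` there is room only if `s` centralizes `u`. -/
theorem commute_s_u {x : T} (hx : x ∉ fourSubgroup hT h hu)
    (hxs : s⁻¹ * x ∉ fourSubgroup hT h hu) : Commute s u := by
  haveI := four_normal hT h hu
  set W := fourSubgroup hT h hu with hW
  by_contra hsu
  have hs : s * u * s⁻¹ = u * s ^ 2 := (hu.conj s).resolve_left fun e => hsu (mul_inv_eq_iff_eq_mul.1 e)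
  by_cases hC : ∀ c : T, Commute c u → c ∈ W
  · have hxu : x * u * x⁻¹ = u * s ^ 2 :=
      (hu.conj x).resolve_left fun e => hx (hC x (mul_inv_eq_iff_eq_mul.1 e))
    refine hxs (hC _ (mul_inv_eq_iff_eq_mul.1 ?_))
    rw [show s⁻¹ * x * u * (s⁻¹ * x)⁻¹ = s⁻¹ * (x * u * x⁻¹) * s by group, hxu, ← hs]
    group
  push Not at hC
  obtain ⟨c, hcu, hc⟩ := hC
  set C := centralizer ({u} : Set T) with hCdef
  have hCI : Inv φ C := by
    intro a ha
    have hau : Commute a u := mem_centralizer_singleton_iff.1 ha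
    have h1 : Commute (φ a) (u * s ^ 2) := by
      have := hau.map φ.toMonoidHom
      simpa [hu.map] using this
    have h2 := h1.mul_right (h.commute_z hT (φ a))
    rw [mul_assoc, ← sq (s ^ 2), h.z_sq, mul_one] at h2
    exact mem_centralizer_singleton_iff.2 h2.eq
  have hmap : W.map φ.toMonoidHom = W := by
    refine le_antisymm (by rintro _ ⟨a, ha, rfl⟩; exact four_map hT h hu ha) fun a ha => ?_
    exact ⟨φ a, four_map hT h hu ha, h.invol a⟩
  set ψ := QuotientGroup.congr W W φ hmap with hψ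
  obtain ⟨q, hq, hq1, hqf⟩ := exists_fixed (hT.to_quotient W) ψ
    (fun q => by
      obtain ⟨a, rfl⟩ := QuotientGroup.mk_surjective q
      show ((φ (φ a) : T) : T ⧸ W) = _
      rw [h.invol])
    (C.map (QuotientGroup.mk' W))
    (by rintro _ ⟨a, ha, rfl⟩; exact ⟨φ a, hCI a ha, rfl⟩)
    (fun e => hc (by
      have : (c : T ⧸ W) ∈ C.map (QuotientGroup.mk' W) :=
        ⟨c, mem_centralizer_singleton_iff.2 hcu.eq, rfl⟩
      rw [e, Subgroup.mem_bot, QuotientGroup.eq_one_iff] at this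
      exact this))
  obtain ⟨a, ha, rfl⟩ := hq
  have ha' : a⁻¹ * φ a ∈ W := QuotientGroup.eq.1 hqf.symm
  rcases fixed_mod hT h hu ha' with h1 | h1
  · exact hq1 ((QuotientGroup.eq_one_iff a).2 h1)
  · have hau : Commute a u := mem_centralizer_singleton_iff.1 ha
    have hwu : Commute u (s⁻¹ * a) := commute_four hT h hu (Commute.refl u) h1
    refine hsu ?_
    have := hau.mul_left hwu.symm.inv_left
    simpa [mul_assoc] using this

end Four

end CfsgLib.CyclicFourFix
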