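import Cfsg.Agent.Lib.CyclicFourFix.FourCase
import Cfsg.Agent.S3225

/-!
A finite group `G = A⟨t⟩`, `A` normal and perfect with central solvable normal subgroups, `t ^ 2 = 1`,
in which the 2-subgroups of `C_A(t)` are cyclic of order at most four and one has order four: the
Sylow 2-subgroups of `A` have a single involution.
-/

set_option autoImplicit false
set_option linter.style.haveILetI false
set_option linter.unusedSectionVars false

namespace CfsgLib.CyclicFourFix

open Subgroup
open scoped commutatorElement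

universe u

variable {G : Type u} [Group G] [Finite G] {A : Subgroup G} [A.Normal]

/-- The intersection of a Sylow subgroup with a normal supplement is a Sylow subgroup of it. -/
theorem not_dvd_index_subgroupOf {t : G} (hgen : ∀ g, g ∈ A ∨ t * g ∈ A) (P : Sylow 2 G)
    (htP : t ∈ (P : Subgroup G)) : ¬ 2 ∣ ((P : Subgroup G).subgroupOf A).index := by
  haveI : Fact (Nat.Prime 2) := ⟨Nat.prime_two⟩
  have hsurj : ∀ q : G ⧸ (P : Subgroup G), ∃ a : A, ((a : G) : G ⧸ (P : Subgroup G)) = q := by
    intro q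
    obtain ⟨g, rfl⟩ := QuotientGroup.mk_surjective q
    rcases hgen g with hg | hg
    · exact ⟨⟨g, hg⟩, rfl⟩
    · refine ⟨⟨g * t, ?_⟩, QuotientGroup.eq.2 ?_⟩
      · have := (inferInstance : A.Normal).conj_mem _ hg t⁻¹
        simpa [mul_assoc] using this
      · show (g * t)⁻¹ * g ∈ (P : Subgroup G)
        rw [show (g * t)⁻¹ * g = t⁻¹ by group]
        exact inv_mem htP
  have hcard : ((P : Subgroup G).subgroupOf A).index = (P : Subgroup G).index := by
    rw [Subgroup.index_eq_card, Subgroup.index_eq_card]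
    refine Nat.card_eq_of_bijective (Quotient.map' (fun a : A => (a : G)) ?_) ⟨?_, ?_⟩
    · intro a b hab
      rw [QuotientGroup.leftRel_apply] at hab ⊢
      exact hab
    · intro p q
      refine Quotient.inductionOn₂' p q fun a b hab => ?_
      exact QuotientGroup.eq.2 (show a⁻¹ * b ∈ (P : Subgroup G).subgroupOf A from
        (QuotientGroup.eq (s := (P : Subgroup G))).1 hab)
    · intro q
      obtain ⟨a, rfl⟩ := hsurj q
      exact ⟨(a : A ⧸ (P : Subgroup G).subgroupOf A), rfl⟩
  rw [hcard]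
  exact P.not_dvd_index

/-- Conjugation by an element of `P` on `P ∩ A`, as an automorphism of a Sylow subgroup of `A`. -/
def conjSylow (P : Sylow 2 G) (S : Sylow 2 A) (hS : (S : Subgroup A) = (P : Subgroup G).subgroupOf A)
    {a : G} (ha : a ∈ (P : Subgroup G)) : ↥(S : Subgroup A) ≃* ↥(S : Subgroup A) where
  toFun x := ⟨⟨a * ((x : A) : G) * a⁻¹, (inferInstance : A.Normal).conj_mem _ (x : A).2 a⟩, by
    refine (SetLike.ext_iff.1 hS _).2 ?_
    show _ ∈ (P : Subgroup G)
    have hx : ((x : A) : G) ∈ (P : Subgroup G) := (SetLike.ext_iff.1 hS _).1 x.2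
    exact mul_mem (mul_mem ha hx) (inv_mem ha)⟩
  invFun x := ⟨⟨a⁻¹ * ((x : A) : G) * a⁻¹⁻¹, (inferInstance : A.Normal).conj_mem _ (x : A).2 a⁻¹⟩, by
    refine (SetLike.ext_iff.1 hS _).2 ?_
    show _ ∈ (P : Subgroup G)
    have hx : ((x : A) : G) ∈ (P : Subgroup G) := (SetLike.ext_iff.1 hS _).1 x.2
    exact mul_mem (mul_mem (inv_mem ha) hx) (inv_mem (inv_mem ha))⟩
  left_inv x := by apply Subtype.ext; apply Subtype.ext; simp [mul_assoc]
  right_inv x := by apply Subtype.ext; apply Subtype.ext; simp [mul_assoc]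
  map_mul' x y := by apply Subtype.ext; apply Subtype.ext; simp [mul_assoc]

@[simp] theorem conjSylow_coe (P : Sylow 2 G) (S : Sylow 2 A)
    (hS : (S : Subgroup A) = (P : Subgroup G).subgroupOf A) {a : G} (ha : a ∈ (P : Subgroup G))
    (x : ↥(S : Subgroup A)) :
    (((conjSylow P S hS ha x : ↥(S : Subgroup A)) : A) : G) = a * ((x : A) : G) * a⁻¹ := rfl

/-- The subgroups of `C_A(a)` make conjugation by `a` a `FixFour`. -/
theorem fixFour_of_conj (P : Sylow 2 G) (S : Sylow 2 A)
    (hS : (S : Subgroup A) = (P : Subgroup G).subgroupOf A) {a : G} (ha : a ∈ (P : Subgroup G))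
    (ha2 : a * a = 1)
    (hC : ∀ R : Subgroup G, IsPGroup 2 R → R ≤ A → (∀ x ∈ R, Commute a x) →
      ∃ r : G, r ^ 4 = 1 ∧ R ≤ zpowers r)
    {m : ↥(S : Subgroup A)} (hm4 : m ^ 4 = 1) (hm2 : m ^ 2 ≠ 1)
    (hcomm : Commute a ((m : A) : G)) : FixFour (conjSylow P S hS ha) m where
  invol x := by
    apply Subtype.ext; apply Subtype.ext
    have hai : a⁻¹ = a := inv_eq_of_mul_eq_one_right ha2
    simp only [conjSylow_coe, hai]
    rw [show a * (a * ((x : A) : G) * a) * a = (a * a) * ((x : A) : G) * (a * a) by group, ha2,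
      one_mul, mul_one]
  sq_ne := hm2
  pow_four := hm4
  map_s := by
    apply Subtype.ext; apply Subtype.ext
    rw [conjSylow_coe, hcomm.eq, mul_inv_cancel_right]
  fix x hx := by
    have hx' : a * ((x : A) : G) * a⁻¹ = ((x : A) : G) := by
      rw [← conjSylow_coe P S hS ha x, hx]
    set j : ↥(S : Subgroup A) →* G := A.subtype.comp (S : Subgroup A).subtype with hj
    have hjinj : Function.Injective j :=
      A.subtype_injective.comp (S : Subgroup A).subtype_injective
    set R := (closure ({m, x} : Set ↥(S : Subgroup A))).map j with hR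
    obtain ⟨r, hr4, hRr⟩ := hC R ((S.isPGroup'.to_subgroup
      (closure ({m, x} : Set ↥(S : Subgroup A)))).map j)
      (by rintro _ ⟨y, -, rfl⟩; exact (y : A).2)
      (by
        rintro _ ⟨y, hy, rfl⟩
        have hle : closure ({m, x} : Set ↥(S : Subgroup A)) ≤ (centralizer ({a} : Set G)).comap j := by
          rw [Subgroup.closure_le]
          rintro w (rfl | rfl)
          · exact mem_centralizer_singleton_iff.2 hcomm.eq.symm
          · exact mem_centralizer_singleton_iff.2 (mul_inv_eq_iff_eq_mul.1 hx').symm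
        exact (mem_centralizer_singleton_iff.1 (hle hy)).symm)
    have hmr : j m ∈ zpowers r := hRr ⟨m, subset_closure (by simp), rfl⟩
    have hle : zpowers (j m) ≤ zpowers r := zpowers_le.2 hmr
    have heq : zpowers (j m) = zpowers r := by
      refine Subgroup.eq_of_le_of_card_ge hle ?_
      rw [Nat.card_zpowers, Nat.card_zpowers]
      haveI : Fact (Nat.Prime 2) := ⟨Nat.prime_two⟩
      have hm : orderOf (j m) = 2 ^ (1 + 1) := orderOf_eq_prime_pow
        (by rw [pow_one, ← map_pow, map_eq_one_iff j hjinj]; exact hm2)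
        (by rw [show 2 ^ (1 + 1) = 4 from rfl, ← map_pow, hm4, map_one])
      rw [hm]
      exact Nat.le_of_dvd (by norm_num) (orderOf_dvd_of_pow_eq_one hr4)
    obtain ⟨i, hi⟩ := heq.symm ▸ hRr ⟨x, subset_closure (by simp), rfl⟩
    exact ⟨i, hjinj (by simpa using hi)⟩

variable (hperf : commutator ↥A = ⊤)
include hperf

/-- The main theorem. -/
theorem eq_of_commuting_involutions
    (hsol : ∀ N : Subgroup A, N.Normal → Group.IsSolvable N → N ≤ center A)
    {t : G} (ht : t * t = 1) (hgen : ∀ g, g ∈ A ∨ t * g ∈ A)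
    (hC : ∀ R : Subgroup G, IsPGroup 2 R → R ≤ A → (∀ x ∈ R, Commute t x) →
      ∃ r : G, r ^ 4 = 1 ∧ R ≤ zpowers r)
    (hs : ∃ s ∈ A, Commute t s ∧ s ^ 4 = 1 ∧ s ^ 2 ≠ 1)
    {a b : ↥A} (ha2 : a ^ 2 = 1) (hb2 : b ^ 2 = 1) (ha1 : a ≠ 1) (hb1 : b ≠ 1) (hab : Commute a b) :
    a = b := by
  haveI : Fact (Nat.Prime 2) := ⟨Nat.prime_two⟩
  obtain ⟨s₀, hs₀A, hts, hs4, hs2⟩ := hs
  set C := centralizer ({t} : Set G) with hCdef
  have hzn : zpowers s₀ ≤ normalizer ((zpowers t : Subgroup G) : Set G) := by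
    refine zpowers_le.2 (Subgroup.mem_normalizer_iff.2 fun g => ?_)
    have hc : ∀ k ∈ zpowers t, s₀ * k * s₀⁻¹ = k := by
      rintro _ ⟨i, rfl⟩
      rw [(hts.symm.zpow_right i).eq, mul_inv_cancel_right]
    constructor
    · intro hg; rw [hc g hg]; exact hg
    · intro hg
      have h1 := hc _ hg
      have h2 : s₀ * g * s₀⁻¹ = g := by
        calc s₀ * g * s₀⁻¹ = s₀⁻¹ * (s₀ * (s₀ * g * s₀⁻¹) * s₀⁻¹) * s₀ := by group
          _ = g := by rw [h1]; group
      rwa [h2] at hg
  have hp2 : IsPGroup 2 ↥(zpowers s₀ ⊔ zpowers t : Subgroup G) :=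
    IsPGroup.to_sup_of_normal_right' (IsPGroup.of_card_dvd_pow (n := 2) (by
        rw [Nat.card_zpowers]; exact orderOf_dvd_of_pow_eq_one hs4))
      (IsPGroup.of_card_dvd_pow (n := 1) (by
        rw [Nat.card_zpowers]; exact orderOf_dvd_of_pow_eq_one (by rw [pow_one, pow_two, ht]))) hzn
  obtain ⟨P, hP⟩ := hp2.exists_le_sylow
  have htP : t ∈ (P : Subgroup G) := hP (le_sup_right (α := Subgroup G) (mem_zpowers t))
  have hsP : s₀ ∈ (P : Subgroup G) := hP (le_sup_left (α := Subgroup G) (mem_zpowers s₀))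
  set S : Sylow 2 A := (P.isPGroup'.comap_of_injective A.subtype A.subtype_injective).toSylow
    (not_dvd_index_subgroupOf hgen P htP) with hSdef
  have hS : (S : Subgroup A) = (P : Subgroup G).subgroupOf A := rfl
  set s : ↥(S : Subgroup A) := ⟨⟨s₀, hs₀A⟩, hsP⟩ with hsdef
  set φ := conjSylow P S hS htP with hφdef
  set j : ↥(S : Subgroup A) →* G := A.subtype.comp (S : Subgroup A).subtype with hj
  have hjinj : Function.Injective j :=
    A.subtype_injective.comp (S : Subgroup A).subtype_injective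
  have hjval : ∀ x : ↥(S : Subgroup A), j x = ((x : A) : G) := fun x => rfl
  have h : FixFour φ s := fixFour_of_conj P S hS htP ht hC
    (hjinj (by rw [map_pow, map_one, hjval]; exact hs4))
    (fun e => hs2 (by have := congrArg j e; rwa [map_pow, map_one, hjval] at this)) hts
  have hT : IsPGroup 2 ↥(S : Subgroup A) := S.isPGroup'
  have hmemS : ∀ {g : G} (hg : g ∈ A), g ∈ (P : Subgroup G) →
      ∃ x : ↥(S : Subgroup A), j x = g := fun hg hgP => ⟨⟨⟨_, hg⟩, hgP⟩, rfl⟩
  rcases h.shape hT with huniq | ⟨u, hu⟩ | ⟨y, u, n, d, hsY⟩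
  · have hcl : IsPGroup 2 ↥(zpowers a ⊔ zpowers b : Subgroup A) := by
      refine IsPGroup.to_sup_of_normal_right' (IsPGroup.of_card_dvd_pow (n := 1) (by
        rw [Nat.card_zpowers]; exact orderOf_dvd_of_pow_eq_one (by rw [pow_one, ha2])))
        (IsPGroup.of_card_dvd_pow (n := 1) (by
        rw [Nat.card_zpowers]; exact orderOf_dvd_of_pow_eq_one (by rw [pow_one, hb2]))) ?_
      refine zpowers_le.2 (Subgroup.mem_normalizer_iff.2 fun g => ?_)
      have hc : ∀ k ∈ zpowers b, a * k * a⁻¹ = k := by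
        rintro _ ⟨i, rfl⟩
        rw [(hab.zpow_right i).eq, mul_inv_cancel_right]
      constructor
      · intro hg; rw [hc g hg]; exact hg
      · intro hg
        have h1 := hc _ hg
        have h2 : a * g * a⁻¹ = g := by
          calc a * g * a⁻¹ = a⁻¹ * (a * (a * g * a⁻¹) * a⁻¹) * a := by group
            _ = g := by rw [h1]; group
        rwa [h2] at hg
    obtain ⟨Q, hQ⟩ := hcl.exists_le_sylow
    obtain ⟨g, hg⟩ := MulAction.exists_smul_eq A Q S
    have hmem : ∀ x ∈ (zpowers a ⊔ zpowers b : Subgroup A), g * x * g⁻¹ ∈ (S : Subgroup A) := by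
      intro x hx
      rw [← hg, Sylow.coe_subgroup_smul]
      exact Subgroup.smul_mem_pointwise_smul _ (MulAut.conj g) _ (hQ hx)
    have key : ∀ x : ↥A, x ∈ (zpowers a ⊔ zpowers b : Subgroup A) → x ^ 2 = 1 → x ≠ 1 →
        g * x * g⁻¹ = ((s ^ 2 : ↥(S : Subgroup A)) : A) := by
      intro x hx hx2 hx1
      rcases huniq ⟨_, hmem x hx⟩ (Subtype.ext (by
        rw [Subgroup.coe_pow, conj_pow, hx2]; simp)) with e | e
      · exact absurd (conj_eq_one_iff.1 (congrArg Subtype.val e)) hx1
      · exact congrArg Subtype.val e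
    exact mul_left_cancel (mul_right_cancel
      ((key a (le_sup_left (α := Subgroup A) (mem_zpowers a)) ha2 ha1).trans
        (key b (le_sup_right (α := Subgroup A) (mem_zpowers b)) hb2 hb1).symm))
  · -- a dihedral group of order eight
    exfalso
    obtain ⟨hcov, hsu⟩ := four_case hperf hsol h hu
    have hzc : ∀ x, Commute x (s ^ 2) := h.commute_z hT
    have hz2 : (s ^ 2) ^ 2 = 1 := h.z_sq
    have hsu' : s * u * s⁻¹ = u * s ^ 2 :=
      (hu.conj s).resolve_left fun e => hsu (mul_inv_eq_iff_eq_mul.1 e)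
    have huu : u * u = 1 := by rw [← pow_two]; exact hu.sq
    have hW : ∀ w, w ∈ fourSubgroup hT h hu →
        (w ∈ zpowers s ∨ u⁻¹ * w ∈ zpowers s) ∧ s * φ w * s⁻¹ = w ∧
          (φ w * w = 1 ∨ φ w * w = s ^ 2) ∧ ((s * w) ^ 2 = 1 ∨ (s * w) ^ 2 = s ^ 2) := by
      have hz : s ^ 2 ∈ zpowers s := pow_mem (mem_zpowers s) 2
      have hzz : s * s ^ 2 * s⁻¹ = s ^ 2 := by group
      have hsw : ∀ w, (s * w) ^ 2 = (s * w * s⁻¹) * (s ^ 2) * w := fun w => by
        rw [pow_two, pow_two]; group
      have huzu : u * s ^ 2 * u = s ^ 2 := by rw [(hzc u).eq, mul_assoc, huu, mul_one]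
      intro w hw
      rw [mem_four] at hw
      rcases hw with hw | hw | hw | hw <;> rw [hw]
      · refine ⟨Or.inl (one_mem _), by simp, Or.inl (by simp), Or.inr (by simp)⟩
      · refine ⟨Or.inl hz, by rw [h.map_z, hzz], Or.inl (by rw [h.map_z, ← pow_two]; exact hz2),
          Or.inr ?_⟩
        rw [hsw, hzz, ← pow_two (s ^ 2), hz2, one_mul]
      · refine ⟨Or.inr (by rw [inv_mul_cancel]; exact one_mem _), ?_, Or.inr ?_, Or.inl ?_⟩
        · rw [hu.map, ← conj_mul, hsu', hzz, mul_assoc, ← pow_two, hz2, mul_one]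
        · rw [hu.map, huzu]
        · rw [hsw, hsu', mul_assoc u, ← pow_two (s ^ 2), hz2, mul_one, huu]
      · refine ⟨Or.inr (by rw [inv_mul_cancel_left]; exact hz), ?_, Or.inr ?_, Or.inl ?_⟩
        · rw [map_mul, hu.map, h.map_z, mul_assoc u (s ^ 2), ← pow_two (s ^ 2), hz2, mul_one, hsu']
        · rw [map_mul, hu.map, h.map_z, mul_assoc u (s ^ 2), ← pow_two (s ^ 2), hz2, mul_one,
            ← mul_assoc, huu, one_mul]
        · rw [hsw, ← conj_mul, hsu', hzz, mul_assoc u (s ^ 2) (s ^ 2), ← pow_two (s ^ 2), hz2, mul_one,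
            ← mul_assoc, huzu, ← pow_two, hz2]
    have huM : u ∉ zpowers s := fun e => hu.ne_z
      (eq_of_involutions_zpowers hT e (pow_mem (mem_zpowers s) 2) hu.sq hz2 hu.ne_one h.sq_ne)
    have hcovM : ∀ x, x ∈ zpowers s ∨ u⁻¹ * x ∈ zpowers s := by
      intro x
      rcases hcov x with hx | hx
      · exact (hW x hx).1
      · rcases (hW _ hx).1 with hw | hw
        · left
          have := mul_mem (mem_zpowers s) hw
          rwa [mul_inv_cancel_left] at this
        · right
          have h1 : u⁻¹ * s * u = s * s ^ 2 := by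
            have h2 : u * s * u⁻¹ = s * (s ^ 2)⁻¹ := by
              rw [← (hzc s).inv_right.eq.symm]
              calc u * s * u⁻¹ = (s ^ 2)⁻¹ * (u * s ^ 2) * s * u⁻¹ := by
                    rw [← (hzc u).eq.symm]; group
                _ = (s ^ 2)⁻¹ * (s * u * s⁻¹) * s * u⁻¹ := by rw [hsu']
                _ = (s ^ 2)⁻¹ * s := by group
            rw [inv_eq_of_mul_eq_one_right huu] at h2 ⊢
            rw [h2, inv_eq_of_mul_eq_one_right (by rw [← pow_two]; exact hz2)]
          have := mul_mem (show s * s ^ 2 ∈ zpowers s from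
            mul_mem (mem_zpowers s) (pow_mem (mem_zpowers s) 2)) hw
          rw [← h1] at this
          rw [show u⁻¹ * x = u⁻¹ * s * u * (u⁻¹ * (s⁻¹ * x)) by group]
          exact this
    obtain ⟨m, hm, g, hg⟩ := thompson hperf huM hcovM hu.sq huM
    have hfus : Fus u m := ⟨g, hg⟩
    have hmz : m = s ^ 2 := eq_of_involutions_zpowers hT hm (pow_mem (mem_zpowers s) 2)
      (hfus.sq_eq hu.sq) hz2 (hfus.ne_one hu.ne_one) h.sq_ne
    subst hmz
    have hjφ : ∀ x, j (φ x) = t * j x * t⁻¹ := fun x => rfl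
    have hti : t⁻¹ = t := inv_eq_of_mul_eq_one_right ht
    have hzP : ∀ p ∈ (P : Subgroup G), Commute p (j (s ^ 2)) := by
      intro p hp
      have hA : ∀ x : ↥(S : Subgroup A), Commute (j x) (j (s ^ 2)) := fun x => (hzc x).map j
      rcases hgen p with hpA | hpA
      · obtain ⟨x, rfl⟩ := hmemS hpA hp; exact hA x
      · obtain ⟨x, hx⟩ := hmemS hpA (mul_mem htP hp)
        have hp' : p = t * j x := by rw [hx, ← mul_assoc, ht, one_mul]
        rw [hp']
        refine Commute.mul_left ?_ (hA x)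
        show t * j (s ^ 2) = j (s ^ 2) * t
        rw [← mul_inv_eq_iff_eq_mul, ← hjφ, h.map_z]
    refine not_conj_of_squares P (z := j (s ^ 2)) (u := j u) (r := t * j s) hzP
      (fun e => h.sq_ne (hjinj (e.trans (map_one j).symm))) (by rw [← map_pow, hz2, map_one])
      ?_ (mul_mem htP hsP) ?_ ?_ (fun e => hu.ne_z (hjinj e)) ((g : A) : G) ?_
    · intro p hp h4 h2
      rcases hgen p with hpA | hpA
      · obtain ⟨x, rfl⟩ := hmemS hpA hp
        rcases hcov x with hx | hx
        · exact absurd (by rw [← map_pow, four_sq hT h hu hx, map_one]) h2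
        · rcases (hW _ hx).2.2.2 with e | e <;> rw [mul_inv_cancel_left] at e
          · exact absurd (by rw [← map_pow, e, map_one]) h2
          · rw [← map_pow, e]
      · obtain ⟨x, hx⟩ := hmemS hpA (mul_mem htP hp)
        have hp' : p = t * j x := by rw [hx, ← mul_assoc, ht, one_mul]
        have hp2' : p ^ 2 = j (φ x * x) := by
          rw [map_mul, hjφ, hti, hp', pow_two]; group
        rw [hp2'] at h2 ⊢
        rcases hcov x with hx | hx
        · rcases (hW x hx).2.2.1 with e | e <;> rw [e] at h2 ⊢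
          exact absurd (map_one j) h2
        · have hw := (hW _ hx).2.1
          have e : φ x * x = s ^ 2 := by
            have hφx : φ x = s * φ (s⁻¹ * x) := by
              rw [map_mul, map_inv, h.map_s, mul_inv_cancel_left]
            set w := s⁻¹ * x with hwdef
            have hxw : x = s * w := by rw [hwdef, mul_inv_cancel_left]
            calc φ x * x = (s * φ w) * (s * w) := by rw [hφx, hxw]
              _ = (s * φ w * s⁻¹) * (s ^ 2) * w := by rw [pow_two]; group
              _ = w * s ^ 2 * w := by rw [hw]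
              _ = s ^ 2 := by
                rw [(hzc w).eq, mul_assoc, ← pow_two w, four_sq hT h hu hx, mul_one]
          rw [e]
    · show t * j s * j u = j u * (t * j s)
      have h1 : t * j (u * s ^ 2) = j u * t := by
        rw [← mul_inv_eq_iff_eq_mul, ← hjφ, map_mul, hu.map, h.map_z, mul_assoc, ← pow_two, hz2,
          mul_one]
      rw [mul_assoc, ← map_mul, mul_inv_eq_iff_eq_mul.1 hsu', map_mul, ← mul_assoc, h1, mul_assoc]
    · rw [show (t * j s) ^ 2 = j (φ s * s) by rw [map_mul, hjφ, hti, pow_two]; group, h.map_s,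
        ← pow_two]
    · rw [hjval, hjval, ← hg]; rfl
  · -- semidihedral
    exfalso
    set z := y ^ 2 ^ (n - 1) with hz
    have hinv : ∀ e ∈ zpowers y, e ^ 2 = 1 → e = 1 ∨ e = z := by
      rintro _ ⟨i, rfl⟩ he; exact zpow_sq_eq_one d.order he
    have hn3 := d.three
    have huu : u * u = 1 := by rw [← pow_two]; exact d.sq
    have hui : u⁻¹ = u := inv_eq_of_mul_eq_one_right huu
    have hform : ∀ x, x ∈ zpowers y ∨ ∃ i : ℤ, x = u * y ^ i := by
      intro x
      by_cases hx : x ∈ zpowers y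
      · exact Or.inl hx
      · obtain ⟨i, hi⟩ := d.cover x hx
        simp only at hi
        exact Or.inr ⟨i, by rw [hi, mul_inv_cancel_left]⟩
    have hz2 : z ^ 2 = 1 := by
      rw [hz, ← pow_mul, ← pow_succ, show n - 1 + 1 = n by omega, ← d.order, pow_orderOf_eq_one]
    have hact : u * y * u⁻¹ = y⁻¹ * z := by
      refine d.act.resolve_left fun e => ?_
      obtain ⟨i, hi⟩ := (hform s).resolve_left hsY
      refine h.sq_ne ?_
      rw [hi, pow_two, show u * y ^ i * (u * y ^ i) = (u * y * u⁻¹) ^ i * ((u * u) * y ^ i) by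
        rw [conj_zpow]; group, e, huu, one_mul, inv_zpow, inv_mul_cancel]
    have hyz : Commute y z := (Commute.refl y).pow_right _
    have hsqf : ∀ i : ℤ, (u * y ^ i) ^ 2 = z ^ i := by
      intro i
      rw [pow_two, show u * y ^ i * (u * y ^ i) = (u * y * u⁻¹) ^ i * ((u * u) * y ^ i) by
        rw [conj_zpow]; group, hact, huu, one_mul, hyz.inv_left.mul_zpow, inv_zpow, mul_assoc,
        ← ((hyz.zpow_left i).zpow_right i).eq, inv_mul_cancel_left]
    have hzev : ∀ c : ℤ, Even c → z ^ c = 1 := by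
      rintro c ⟨e, rfl⟩; rw [← two_mul, zpow_mul, zpow_two, ← pow_two, hz2, one_zpow]
    have hz2y : z ∈ zpowers (y ^ 2) := ⟨(2 ^ (n - 2) : ℕ), by
      simp only [zpow_natCast]
      rw [hz, ← pow_mul, ← pow_succ']
      congr 2
      omega⟩
    have hz2le : zpowers (y ^ 2) ≤ zpowers y := zpowers_le.2 (pow_mem (mem_zpowers y) 2)
    have hwc : u * y ^ 2 * u⁻¹ ∈ zpowers (y ^ 2) := by
      rw [← conj_pow, hact, hyz.inv_left.mul_pow, hz2, mul_one, inv_pow]
      exact inv_mem (mem_zpowers _)
    set M := twoCosets (y ^ 2) u (huu ▸ one_mem _) hwc with hM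
    have hy2ev : ∀ i : ℤ, Even i → y ^ i ∈ zpowers (y ^ 2) := by
      rintro i ⟨e, rfl⟩
      exact ⟨e, by simp only; rw [← zpow_natCast y 2, ← zpow_mul]; congr 1; push_cast; ring⟩
    have hyM : y ∉ M := by
      rintro (h1 | h1)
      · obtain ⟨i, hi⟩ := h1
        simp only at hi
        rw [← zpow_natCast y 2, ← zpow_mul, ← mul_inv_eq_one, ← zpow_neg_one, ← zpow_add,
          zpow_eq_one_iff_dvd d.order] at hi
        have := (dvd_pow_self (2 : ℤ) (show n ≠ 0 by omega)).trans hi
        push_cast at this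
        omega
      · refine d.notmem ?_
        have := mul_mem (mem_zpowers y) (inv_mem (hz2le h1))
        rwa [mul_inv_rev, mul_inv_cancel_left, inv_inv] at this
    have hcovM : ∀ x, x ∈ M ∨ y⁻¹ * x ∈ M := by
      intro x
      rcases hform x with ⟨i, hi⟩ | ⟨i, hi⟩
      · simp only at hi
        subst hi
        rcases Int.even_or_odd i with he | ⟨e, rfl⟩
        · exact Or.inl (Or.inl (hy2ev i he))
        · right; left
          rw [show y⁻¹ * y ^ (2 * e + 1) = y ^ (2 * e) by group]
          exact hy2ev _ (even_two_mul e)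
      · subst hi
        rcases Int.even_or_odd i with he | ⟨e, rfl⟩
        · exact Or.inl (Or.inr (by rw [inv_mul_cancel_left]; exact hy2ev i he))
        · right; right
          show u⁻¹ * (y⁻¹ * (u * y ^ (2 * e + 1))) ∈ zpowers (y ^ 2)
          rw [show u⁻¹ * (y⁻¹ * (u * y ^ (2 * e + 1))) = (u⁻¹ * y * u)⁻¹ * y ^ (2 * e + 1) by group,
            hui, show u * y * u = y⁻¹ * z by rw [← hact, hui], mul_inv_rev, inv_inv, mul_assoc,
            ← zpow_one_add]
          exact mul_mem (inv_mem hz2y) (hy2ev _ ⟨e + 1, by ring⟩)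
    have hrel : (M.map (S : Subgroup A).subtype).relIndex (S : Subgroup A) = 2 := by
      rw [Subgroup.relIndex, Subgroup.subgroupOf,
        Subgroup.comap_map_eq_self_of_injective (S : Subgroup A).subtype_injective]
      exact index_two_of_cover hyM hcovM
    have hev : Even (Nat.card A) := by
      obtain ⟨k, hk⟩ : orderOf (u : A) ∣ Nat.card A := orderOf_dvd_natCard _
      rw [Subgroup.orderOf_coe, orderOf_eq_prime (p := 2) d.sq
        (fun e => d.notmem (e ▸ one_mem _))] at hk
      exact ⟨k, by omega⟩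
    have hs_ord : orderOf (s : A) = 2 ^ 2 := by
      rw [Subgroup.orderOf_coe]
      exact orderOf_eq_prime_pow (n := 1) (by rw [pow_one]; exact h.sq_ne) h.pow_four
    obtain ⟨g, m, hmM, hgm⟩ := Cfsg.Agent.S3225.result hev (no_index_two hperf) S
      (M.map (S : Subgroup A).subtype) (Subgroup.map_subtype_le M) hrel 2 (by norm_num) (by
        intro x hx hxM
        by_contra hle
        have hle' : orderOf x ≤ 2 := by simpa using not_lt.1 hle
        have h2 : (⟨x, hx⟩ : ↥(S : Subgroup A)) ^ 2 = 1 := by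
          apply Subtype.ext
          rw [Subgroup.coe_pow]
          apply orderOf_dvd_iff_pow_eq_one.1
          have := orderOf_pos x
          interval_cases (orderOf x) <;> simp
        refine hxM ⟨⟨x, hx⟩, ?_, rfl⟩
        rcases hform ⟨x, hx⟩ with hy' | ⟨i, hi⟩
        · rcases hinv _ hy' h2 with e | e <;> rw [e]
          exacts [one_mem M, Or.inl hz2y]
        · rw [hi]
          refine Or.inr ?_
          show u⁻¹ * (u * y ^ i) ∈ zpowers (y ^ 2)
          rw [inv_mul_cancel_left]
          refine hy2ev i ?_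
          rcases Int.even_or_odd i with he | ⟨e, rfl⟩
          · exact he
          · exfalso
            rw [hi, hsqf, zpow_add, hzev _ (even_two_mul e), one_mul, zpow_one, hz,
              ← orderOf_dvd_iff_pow_eq_one, d.order, Nat.pow_dvd_pow_iff_le_right one_lt_two] at h2
            omega)
      (s : A) s.2 hs_ord
    have hf : Fus s m := ⟨g, hgm.symm⟩
    have hm4 : m ^ 4 = 1 := by
      apply Subtype.ext
      rw [Subgroup.coe_pow, show ((m : ↥(S : Subgroup A)) : A) = _ from hgm, conj_pow,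
        ← Subgroup.coe_pow, h.pow_four]
      simp
    have hm2 : m ^ 2 ≠ 1 := by
      intro e
      refine h.sq_ne (Subtype.ext ?_)
      have h1 : (g * (s : A) * g⁻¹) ^ 2 = 1 := by
        rw [← show ((m : ↥(S : Subgroup A)) : A) = _ from hgm, ← Subgroup.coe_pow, e]; rfl
      rw [conj_pow, conj_eq_one_iff] at h1
      exact h1
    have hmY : m ∈ zpowers y := by
      rcases hmM with hm | hm
      · exact hz2le hm
      · exfalso
        obtain ⟨i, hi⟩ := hm
        simp only at hi
        rw [← zpow_natCast y 2, ← zpow_mul] at hi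
        refine hm2 ?_
        rw [show m = u * y ^ (((2 : ℕ) : ℤ) * i) by rw [hi, mul_inv_cancel_left], hsqf,
          hzev _ ⟨i, by push_cast; ring⟩]
    -- a conjugate of `t` in the centralizer of `m`
    set t₁ := (g : G) * t * (g : G)⁻¹ with ht₁
    have hgs : j m = (g : G) * j s * (g : G)⁻¹ := by
      rw [hjval, show ((m : ↥(S : Subgroup A)) : A) = _ from hgm]; rfl
    have ht₁m : Commute t₁ (j m) := by
      have h1 := (show Commute t (j s) from hts).map (MulAut.conj (g : G)).toMonoidHom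
      rw [hgs]; exact h1
    set Cm := centralizer ({j m} : Set G) with hCm
    have hjy : j y ∈ Cm := mem_centralizer_singleton_iff.2 (by
      obtain ⟨i, rfl⟩ := hmY
      exact congrArg j ((Commute.refl y).zpow_right i).eq)
    have ht₁C : t₁ ∈ Cm := mem_centralizer_singleton_iff.2 ht₁m.eq
    obtain ⟨k, hk⟩ := IsPGroup.iff_orderOf.1 hT y
    have hp1 : IsPGroup 2 ↥(zpowers (⟨j y, hjy⟩ : Cm)) := IsPGroup.of_card_dvd_pow (n := k) (by
      rw [Nat.card_zpowers, Subgroup.orderOf_mk, orderOf_injective j hjinj, hk])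
    have hp3 : IsPGroup 2 ↥(zpowers (⟨t₁, ht₁C⟩ : Cm)) := IsPGroup.of_card_dvd_pow (n := 1) (by
      rw [Nat.card_zpowers, Subgroup.orderOf_mk, pow_one]
      exact orderOf_dvd_of_pow_eq_one (by rw [ht₁, conj_pow, pow_two t, ht, mul_one, mul_inv_cancel]))
    obtain ⟨Q₁, hQ₁⟩ := hp1.exists_le_sylow
    obtain ⟨Q₂, hQ₂⟩ := hp3.exists_le_sylow
    obtain ⟨c, hc⟩ := MulAction.exists_smul_eq Cm Q₂ Q₁
    have hct : c * ⟨t₁, ht₁C⟩ * c⁻¹ ∈ (Q₁ : Subgroup Cm) := by
      rw [← hc, Sylow.coe_subgroup_smul]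
      exact Subgroup.smul_mem_pointwise_smul _ (MulAut.conj c) _ (hQ₂ (mem_zpowers _))
    obtain ⟨P', hP'⟩ := (Q₁.isPGroup'.map Cm.subtype).exists_le_sylow
    obtain ⟨e, he⟩ := MulAction.exists_smul_eq G P' P
    have heP : ∀ x : Cm, x ∈ (Q₁ : Subgroup Cm) → e * (x : G) * e⁻¹ ∈ (P : Subgroup G) := by
      intro x hx
      rw [← he, Sylow.coe_subgroup_smul]
      exact Subgroup.smul_mem_pointwise_smul _ (MulAut.conj e) _ (hP' ⟨x, hx, rfl⟩)
    obtain ⟨y', hy'⟩ := hmemS ((inferInstance : A.Normal).conj_mem _ (y : A).2 e)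
      (heP _ (hQ₁ (mem_zpowers _)))
    have hord : ∀ w : ↥(S : Subgroup A), orderOf w = 2 ^ n → w ∈ zpowers y := by
      intro w hw
      rcases hform w with h' | ⟨i, hi⟩
      · exact h'
      · exfalso
        have h4 : w ^ 4 = 1 := by
          rw [hi, show (4 : ℕ) = 2 * 2 from rfl, pow_mul, hsqf, ← zpow_natCast, ← zpow_mul,
            hzev _ ⟨i, by push_cast; ring⟩]
        have := Nat.le_of_dvd (by norm_num) (orderOf_dvd_of_pow_eq_one h4)
        rw [hw] at this
        have h8 : 2 ^ 3 ≤ 2 ^ n := Nat.pow_le_pow_right (by norm_num) hn3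
        omega
    have hy'Y : y' ∈ zpowers y := hord y' (by
      rw [← orderOf_injective j hjinj, hy',
        show e * ((y : A) : G) * e⁻¹ = (MulAut.conj e).toMonoidHom ((y : A) : G) from rfl,
        orderOf_injective (MulAut.conj e).toMonoidHom (MulAut.conj e).injective]
      exact (orderOf_injective j hjinj y).trans d.order)
    obtain ⟨i, hi⟩ := hmY
    simp only at hi
    set m' := y' ^ i with hm'
    have hjm' : j m' = e * j m * e⁻¹ := by
      rw [hm', map_zpow, hy', conj_zpow, ← hjval, ← map_zpow, hi]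
    set a₁ := e * ((c : G) * t₁ * (c : G)⁻¹) * e⁻¹ with ha₁
    have ha₁P : a₁ ∈ (P : Subgroup G) := heP _ hct
    set k' := e * (c : G) * (g : G) with hk'
    have hk't : a₁ = k' * t * k'⁻¹ := by rw [ha₁, hk', ht₁]; group
    have hcm : Commute (c : G) (j m) := mem_centralizer_singleton_iff.1 c.2
    have hfix := fixFour_of_conj P S hS ha₁P
      (by rw [hk't, show k' * t * k'⁻¹ * (k' * t * k'⁻¹) = k' * (t * t) * k'⁻¹ by group, ht,
        mul_one, mul_inv_cancel])
      (fun R hR hRA hRc => by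
        obtain ⟨r, hr4, hr⟩ := hC (R.map (MulAut.conj k'⁻¹).toMonoidHom) (hR.map _)
          (by rintro _ ⟨x, hx, rfl⟩; exact (inferInstance : A.Normal).conj_mem _ (hRA hx) k'⁻¹)
          (by
            rintro _ ⟨x, hx, rfl⟩
            have h1 := (hRc x hx).map (MulAut.conj k'⁻¹).toMonoidHom
            rw [hk't] at h1
            simpa [MulAut.conj_apply, mul_assoc] using h1)
        refine ⟨k' * r * k'⁻¹, by rw [conj_pow, hr4, mul_one, mul_inv_cancel], fun x hx => ?_⟩
        obtain ⟨l, hl⟩ := hr ⟨x, hx, rfl⟩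
        refine ⟨l, ?_⟩
        simp only at hl ⊢
        rw [conj_zpow, hl]
        simp [mul_assoc])
      (m := m')
      (hjinj (by rw [map_pow, hjm', conj_pow, ← map_pow, hm4, map_one, mul_one, mul_inv_cancel]))
      (fun h' => hm2 (hjinj (by
        have := congrArg j h'
        rwa [map_pow, hjm', conj_pow, map_one, conj_eq_one_iff, ← map_pow, ← map_one j] at this)))
      (by
        show Commute a₁ (j m')
        rw [hjm', ha₁]
        have hcc : (c : G) * j m * (c : G)⁻¹ = j m := by rw [hcm.eq, mul_inv_cancel_right]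
        have h1 := (ht₁m.map (MulAut.conj (c : G)).toMonoidHom)
        simp only [MulEquiv.coe_toMonoidHom, MulAut.conj_apply, hcc] at h1
        simpa [MulAut.conj_apply] using h1.map (MulAut.conj e).toMonoidHom)
    have d' : CyclicTwo (conjSylow P S hS ha₁P) y u n :=
      ⟨d.order, d.three, hord _ ((orderOf_injective (conjSylow P S hS ha₁P).toMonoidHom
        (conjSylow P S hS ha₁P).injective y).trans d.order), d.notmem, d.sq, d.cover, d.act⟩
    exact d'.notmem_of_fixFour hT hfix (zpow_mem hy'Y i)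

end CfsgLib.CyclicFourFix
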