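import Cfsg.Agent.Lib.CyclicFourFix.Small

/-!
Two-groups with an involutory automorphism whose fixed point subgroup is cyclic of order four.
-/

set_option autoImplicit false
set_option linter.style.haveILetI false
set_option linter.unusedSectionVars false

namespace CfsgLib.CyclicFourFix

open Subgroup

variable {T : Type*} [Group T]

/-- The fixed points of `φ` are the powers of `s`, an element of order four. -/
structure FixFour (φ : T ≃* T) (s : T) : Prop where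
  invol : ∀ x, φ (φ x) = x
  sq_ne : s ^ 2 ≠ 1
  pow_four : s ^ 4 = 1
  map_s : φ s = s
  fix : ∀ x, φ x = x → x ∈ zpowers s

namespace FixFour

variable {φ : T ≃* T} {s : T} (h : FixFour φ s)
include h

theorem z_sq : (s ^ 2) ^ 2 = 1 := by rw [← pow_mul]; exact h.pow_four

theorem map_z : φ (s ^ 2) = s ^ 2 := by rw [map_pow, h.map_s]

theorem fix_sq {x : T} (hx : φ x = x) (h2 : x ^ 2 = 1) : x = 1 ∨ x = s ^ 2 := by
  obtain ⟨i, rfl⟩ := h.fix x hx
  simp only at h2 ⊢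
  rcases Int.even_or_odd i with ⟨j, rfl⟩ | ⟨j, rfl⟩
  · rw [← two_mul, zpow_mul, show (2 : ℤ) = ((2 : ℕ) : ℤ) from rfl, zpow_natCast]
    rcases Int.even_or_odd j with ⟨k, rfl⟩ | ⟨k, rfl⟩
    · left; rw [← two_mul, zpow_mul, zpow_two, ← sq, h.z_sq, one_zpow]
    · right; rw [zpow_add, zpow_mul, zpow_two, ← sq, h.z_sq, one_zpow, one_mul, zpow_one]
  · exfalso
    refine h.sq_ne ?_
    have h4 : s ^ ((4 : ℤ)) = 1 := by exact_mod_cast h.pow_four
    rw [← zpow_natCast, ← zpow_mul, show (2 * j + 1) * ((2 : ℕ) : ℤ) = 4 * j + 2 by push_cast; ring,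
      zpow_add, zpow_mul, h4, one_zpow, one_mul] at h2
    exact_mod_cast h2

theorem commute_z [Finite T] (hT : IsPGroup 2 T) (g : T) : Commute g (s ^ 2) := by
  haveI : Nontrivial T := ⟨⟨s ^ 2, 1, h.sq_ne⟩⟩
  have hcen : Inv φ (center T) := fun c hc => mem_center_iff.2 fun a => by
    have := congrArg φ (mem_center_iff.1 hc (φ a))
    rwa [map_mul, map_mul, h.invol] at this
  obtain ⟨x, hxc, hx1, hxf⟩ := exists_fixed hT φ h.invol _ hcen hT.bot_lt_center.ne'
  obtain ⟨k, hk1, hk2⟩ := exists_sq_mem hT (H := (⊥ : Subgroup T)) (x := x) (by simpa using hx1)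
  rw [mem_bot] at hk1 hk2
  rw [← (h.fix_sq (by rw [map_pow, hxf]) hk2).resolve_left hk1]
  exact mem_center_iff.1 (pow_mem hxc _) g

theorem z_mem [Finite T] (hT : IsPGroup 2 T) {H : Subgroup T} (hH : Inv φ H) (hne : H ≠ ⊥) :
    s ^ 2 ∈ H := by
  obtain ⟨x, hxH, hx1, hxf⟩ := exists_fixed hT φ h.invol H hH hne
  obtain ⟨k, hk1, hk2⟩ := exists_sq_mem hT (H := (⊥ : Subgroup T)) (x := x) (by simpa using hx1)
  rw [mem_bot] at hk1 hk2
  rw [← (h.fix_sq (by rw [map_pow, hxf]) hk2).resolve_left hk1]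
  exact pow_mem hxH _

theorem map_of_involution [Finite T] (hT : IsPGroup 2 T) {u : T} (hu2 : u ^ 2 = 1) (hu1 : u ≠ 1)
    (huz : u ≠ s ^ 2) (hc : Commute (φ u) u) : φ u = u * s ^ 2 := by
  have hfix : φ (φ u * u) = φ u * u := by rw [map_mul, h.invol, hc.eq]
  have hsq : (φ u * u) ^ 2 = 1 := by rw [hc.mul_pow, ← map_pow, hu2, map_one, one_mul]
  have hui : u⁻¹ = u := inv_eq_of_mul_eq_one_right (by rw [← sq]; exact hu2)
  rcases h.fix_sq hfix hsq with h' | h'
  · exfalso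
    rw [mul_eq_one_iff_eq_inv, hui] at h'
    rcases h.fix_sq h' hu2 with h'' | h''
    exacts [hu1 h'', huz h'']
  · rw [eq_mul_inv_of_mul_eq h', hui, ← (h.commute_z hT u).eq]

end FixFour

/-- A normal invariant four group `{1, z, u, uz}`. -/
structure FourNormal (φ : T ≃* T) (z u : T) : Prop where
  sq : u ^ 2 = 1
  ne_one : u ≠ 1
  ne_z : u ≠ z
  map : φ u = u * z
  conj : ∀ g, g * u * g⁻¹ = u ∨ g * u * g⁻¹ = u * z

/-- A cyclic subgroup `⟨y⟩` of index two and an involution outside inverting it up to an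
involution. -/
structure CyclicTwo (φ : T ≃* T) (y u : T) (n : ℕ) : Prop where
  order : orderOf y = 2 ^ n
  three : 3 ≤ n
  inv : φ y ∈ zpowers y
  notmem : u ∉ zpowers y
  sq : u ^ 2 = 1
  cover : ∀ x, x ∉ zpowers y → u⁻¹ * x ∈ zpowers y
  act : u * y * u⁻¹ = y⁻¹ ∨ u * y * u⁻¹ = y⁻¹ * y ^ 2 ^ (n - 1)

theorem CyclicTwo.notmem_of_fixFour [Finite T] (hT : IsPGroup 2 T) {φ : T ≃* T} {y u s : T} {n : ℕ}
    (d : CyclicTwo φ y u n) (h : FixFour φ s) (hs : s ∈ zpowers y) : False := by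
  have hI : Inv φ (zpowers y) := inv_zpowers d.inv
  set z := y ^ 2 ^ (n - 1) with hz
  have hinv : ∀ b ∈ zpowers y, b ^ 2 = 1 → b = 1 ∨ b = z := by
    rintro _ ⟨i, rfl⟩ hb; exact zpow_sq_eq_one d.order hb
  have hsz : s ^ 2 = z := (hinv _ (pow_mem hs 2) h.z_sq).resolve_left h.sq_ne
  have hcomm : ∀ a ∈ zpowers y, ∀ b ∈ zpowers y, a * b = b * a := by
    rintro _ ⟨i, rfl⟩ _ ⟨j, rfl⟩
    exact ((Commute.refl y).zpow_left i).zpow_right j |>.eq
  set c := φ y * y⁻¹ with hc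
  have hcy : c ∈ zpowers y := mul_mem d.inv (inv_mem (mem_zpowers y))
  have hcinv : φ c = c⁻¹ := by rw [hc, map_mul, map_inv, h.invol, mul_inv_rev, inv_inv]
  have hc2 : c ^ 2 = 1 := by
    by_contra hc2
    obtain ⟨k, hk1, hk2⟩ := exists_sq_mem hT (H := (⊥ : Subgroup T)) (x := c ^ 2) (by simpa using hc2)
    rw [mem_bot, ← pow_mul] at hk1 hk2
    rw [← pow_mul] at hk2
    set e := c ^ 2 ^ k with he
    have he1 : e ^ 2 ≠ 1 := by rw [he, ← pow_mul, mul_comm]; exact hk1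
    have he4 : (e ^ 2) ^ 2 = 1 := by
      rw [he, ← pow_mul, ← pow_mul]
      rwa [show 2 ^ k * (2 * 2) = 2 * (2 ^ k * 2) by ring]
    have hey : e ∈ zpowers y := pow_mem hcy _
    have hez : e ^ 2 = z := (hinv _ (pow_mem hey 2) he4).resolve_left he1
    have hes : (e * s) ^ 2 = 1 := by
      rw [(show Commute e s from hcomm e hey s hs).mul_pow, hez, hsz, ← hsz, ← pow_two (s ^ 2)]
      exact h.z_sq
    have hφe : φ e = e⁻¹ := by rw [he, map_pow, hcinv, inv_pow]
    refine he1 ?_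
    rcases hinv _ (mul_mem hey hs) hes with h' | h'
    · rw [eq_inv_of_mul_eq_one_left h', map_inv, h.map_s, inv_inv] at hφe
      rw [eq_inv_of_mul_eq_one_left h', pow_two]
      nth_rw 2 [hφe]
      exact inv_mul_cancel s
    · rw [eq_mul_inv_of_mul_eq h'] at hφe ⊢
      rw [map_mul, map_inv, h.map_s, ← hsz, h.map_z] at hφe
      rw [← hsz, pow_two (s ^ 2 * s⁻¹)]
      nth_rw 2 [hφe]
      exact mul_inv_cancel _
  rcases hinv c hcy hc2 with hc' | hc'
  · rw [hc, mul_inv_eq_one] at hc'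
    have := orderOf_le_of_pow_eq_one (n := 4) (x := y) (by norm_num) (by
      obtain ⟨i, hi⟩ := h.fix y hc'
      simp only at hi
      rw [← hi, ← zpow_natCast, ← zpow_mul, mul_comm, zpow_mul, zpow_natCast, h.pow_four, one_zpow])
    rw [d.order] at this
    have h8 : 2 ^ 3 ≤ 2 ^ n := Nat.pow_le_pow_right (by norm_num) d.three
    omega
  have hφy : φ y = y * z := by
    rw [hc, mul_inv_eq_iff_eq_mul] at hc'
    rw [hc', hcomm _ (pow_mem (mem_zpowers y) _) _ (mem_zpowers y)]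
  have hφz : φ z = z := by rw [← hsz]; exact h.map_z
  have hz2 : z ^ 2 = 1 := by rw [← hsz]; exact h.z_sq
  have hzev : ∀ c : ℤ, Even c → z ^ c = 1 := by
    rintro c ⟨d, rfl⟩; rw [← two_mul, zpow_mul, zpow_two, ← pow_two, hz2, one_zpow]
  have hφu : φ u ∉ zpowers y := fun h' => d.notmem (by have := hI _ h'; rwa [h.invol] at this)
  obtain ⟨i, hi⟩ := d.cover _ hφu
  simp only at hi
  have hφu' : φ u = u * y ^ i := by rw [hi, mul_inv_cancel_left]
  have hyz : Commute y z := (Commute.refl y).pow_right _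
  have h1 : y ^ i * (y ^ i * z ^ i) = 1 := by
    have := h.invol u
    rwa [hφu', map_mul, hφu', map_zpow, hφy, hyz.mul_zpow, mul_assoc, mul_eq_left] at this
  have hii : (y ^ i) ^ 2 = z ^ i := by
    rw [← mul_assoc, ← pow_two] at h1
    rw [eq_inv_of_mul_eq_one_left h1, ← inv_zpow, inv_eq_of_mul_eq_one_right (by rw [← pow_two]; exact hz2)]
  have hie : Even i := by
    rcases Int.even_or_odd i with h' | ⟨e, rfl⟩
    · exact h'
    · exfalso
      rw [show z ^ (2 * e + 1) = z by rw [zpow_add, hzev _ ⟨e, by ring⟩, one_mul, zpow_one], hz,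
        ← zpow_natCast y, ← zpow_natCast, ← zpow_mul, ← mul_inv_eq_one, ← zpow_neg, ← zpow_add,
        zpow_eq_one_iff_dvd d.order] at hii
      have hd2 : (4 : ℤ) ∣ 2 ^ (n - 1) := ⟨2 ^ (n - 3), by
        have := d.three
        rw [show (4 : ℤ) = 2 ^ 2 by norm_num, ← pow_add]; congr 1; omega⟩
      have hd1 : (4 : ℤ) ∣ 2 ^ n := hd2.trans (pow_dvd_pow 2 (by omega))
      have := hd1.trans hii
      push_cast at this
      omega
  rw [hzev i hie] at hii
  rcases hinv _ (zpow_mem (mem_zpowers y) i) hii with h' | h' <;> rw [h'] at hφu'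
  · rw [mul_one] at hφu'
    exact d.notmem (zpowers_le.2 hs (h.fix u hφu'))
  · refine d.notmem ?_
    have huy : φ (u * y) = u * y := by
      rw [map_mul, hφu', hφy, mul_assoc, ← mul_assoc z, ← hyz.eq, mul_assoc y, ← pow_two, hz2, mul_one]
    have := mul_mem (zpowers_le.2 hs (h.fix _ huy)) (inv_mem (mem_zpowers y))
    rwa [mul_inv_cancel_right] at this

/-- The three shapes. -/
theorem FixFour.shape [Finite T] (hT : IsPGroup 2 T) {φ : T ≃* T} {s : T} (h : FixFour φ s) :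
    (∀ v : T, v ^ 2 = 1 → v = 1 ∨ v = s ^ 2) ∨ (∃ u, FourNormal φ (s ^ 2) u) ∨
      ∃ y u n, CyclicTwo φ y u n ∧ s ∉ zpowers y := by
  obtain ⟨Y, hN, hI, hc, hself⟩ := exists_selfCentralizing hT φ h.invol
  have hzY : s ^ 2 ∈ Y := hself (mem_centralizer_iff.2 fun a _ => (h.commute_z hT a).eq)
  by_cases hv : ∃ v ∈ Y, v ^ 2 = 1 ∧ v ≠ 1 ∧ v ≠ s ^ 2
  · obtain ⟨v, hvY, hv2, hv1, hvz⟩ := hv
    right; left
    have hmap : ∀ w ∈ Y, w ^ 2 = 1 → w ≠ 1 → w ≠ s ^ 2 → φ w = w * s ^ 2 := fun w hw h2 h1 hz =>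
      h.map_of_involution hT h2 h1 hz (hc _ (hI w hw) w hw)
    refine ⟨v, hv2, hv1, hvz, hmap v hvY hv2 hv1 hvz, fun g => ?_⟩
    set w := g * v * g⁻¹ with hw
    have hwY : w ∈ Y := hN.conj_mem v hvY g
    have hw2 : w ^ 2 = 1 := by rw [hw, conj_pow, hv2, mul_one, mul_inv_cancel]
    have hwv : φ (v * w) = v * w := by
      rw [map_mul, hmap v hvY hv2 hv1 hvz, hmap w hwY hw2 (fun h' => hv1 (conj_eq_one_iff.1 h'))
        (fun h' => hvz (by
          have : v = g⁻¹ * s ^ 2 * g := by rw [← h', hw]; group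
          rw [this, mul_assoc, ← (h.commute_z hT g).eq, inv_mul_cancel_left]))]
      rw [mul_assoc v, ← mul_assoc (s ^ 2), ← (h.commute_z hT w).eq, mul_assoc w, ← sq, h.z_sq,
        mul_one]
    have hvi : v⁻¹ = v := inv_eq_of_mul_eq_one_right (by rw [← sq]; exact hv2)
    rcases h.fix_sq hwv (by rw [(show Commute v w from hc v hvY w hwY).mul_pow, hv2, hw2, one_mul])
      with h' | h'
    · left; rw [eq_inv_of_mul_eq_one_right h', hvi]
    · right; rw [eq_inv_mul_of_mul_eq h', hvi]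
  push Not at hv
  have hcyc : IsCyclic Y := by
    haveI : Fact (Nat.Prime 2) := ⟨Nat.prime_two⟩
    let _ : CommGroup Y := { (inferInstance : Group Y) with
      mul_comm := fun a b => Subtype.ext (hc a a.2 b b.2) }
    refine CfsgLib.TwoGroups.isCyclic_of_uniqueOrderP_comm (p := 2) (hT.to_subgroup Y) ?_
    intro a b ha hb
    have key : ∀ c : Y, orderOf c = 2 → (c : T) = s ^ 2 := fun c hc2 => hv c c.2
      (by rw [← coe_pow, ← hc2, pow_orderOf_eq_one]; rfl) (fun h1 => by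
        rw [orderOf_eq_one_iff.2 (Subtype.ext h1 : c = 1)] at hc2; exact absurd hc2 (by norm_num))
    rw [Subtype.ext ((key a ha).trans (key b hb).symm) (a1 := a) (a2 := b)]
    exact mem_zpowers b
  obtain ⟨y, rfl⟩ := (Subgroup.isCyclic_iff_exists_zpowers_eq_top Y).1 hcyc
  obtain ⟨n, hy⟩ := IsPGroup.iff_orderOf.1 hT y
  set z := y ^ 2 ^ (n - 1) with hz
  have hinv : ∀ b ∈ zpowers y, b ^ 2 = 1 → b = 1 ∨ b = z := by
    rintro _ ⟨i, rfl⟩ hb; exact zpow_sq_eq_one hy hb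
  have hsz : s ^ 2 = z := (hinv _ hzY h.z_sq).resolve_left h.sq_ne
  by_cases hout : ∀ x, x ^ 2 = 1 → x ∈ zpowers y
  · left
    intro v hv2
    rcases hinv v (hout v hv2) hv2 with h' | h'
    exacts [Or.inl h', Or.inr (h'.trans hsz.symm)]
  push Not at hout
  obtain ⟨u, hu2, hu⟩ := hout
  have hui : u⁻¹ = u := inv_eq_of_mul_eq_one_right (by rw [← sq]; exact hu2)
  have hn : 2 ≤ n := by
    by_contra hn
    refine hu (hself (mem_centralizer_iff.2 fun a ha => ?_))
    obtain ⟨i, rfl⟩ := ha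
    have hyz : y = s ^ 2 := by rw [hsz, hz, show n - 1 = 0 by omega, pow_zero, pow_one]
    simp only [hyz]
    exact ((h.commute_z hT u).zpow_right i).eq.symm
  set q := y ^ 2 ^ (n - 2) with hq
  have hqz : q ^ 2 = z := by rw [hq, hz, ← pow_mul, ← pow_succ]; congr 2; omega
  by_cases hT1 : ∃ x, x ∉ zpowers y ∧ Commute x q
  · obtain ⟨x, hx, hxq⟩ := hT1
    obtain ⟨hn3, v, hv', hv2, -, hall⟩ :=
      exists_four_of_centralizer hT φ hy hn hN hI hself hx hxq
    right; left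
    have hv1 : v ≠ 1 := fun h' => hv' (h' ▸ one_mem _)
    have hvz : v ≠ s ^ 2 := fun h' => hv' (h' ▸ hzY)
    refine ⟨v, hv2, hv1, hvz, ?_, fun g => hsz.symm ▸ (hall g).1⟩
    rcases (hall 1).2 with h' | h'
    · rcases h.fix_sq h' hv2 with h'' | h''
      exacts [absurd h'' hv1, absurd h'' hvz]
    · rw [hsz]; exact h'
  push Not at hT1
  have hq4 : q ^ (4 : ℤ) = 1 := by
    rw [show (4 : ℤ) = ((2 * 2 : ℕ) : ℤ) by norm_num, zpow_natCast, pow_mul, hqz, ← hsz, h.z_sq]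
  have hinvq : ∀ a, a ∉ zpowers y → a * q * a⁻¹ = q⁻¹ := by
    intro a ha
    obtain ⟨m, hm⟩ := hN.conj_mem y (mem_zpowers y) a
    simp only at hm
    have hqm : a * q * a⁻¹ = q ^ m := by
      rw [hq, ← zpow_natCast y, ← zpow_mul, mul_comm, zpow_mul, hm]; simp only [zpow_natCast, conj_pow]
    rcases Int.even_or_odd m with ⟨e, rfl⟩ | ⟨e, rfl⟩
    · exfalso
      have h0 : (a * q * a⁻¹) ^ 2 = 1 := by
        rw [hqm, ← zpow_natCast, ← zpow_mul, show (e + e) * ((2 : ℕ) : ℤ) = 4 * e by push_cast; ring,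
          zpow_mul, hq4, one_zpow]
      rw [conj_pow, hqz, conj_eq_one_iff, ← hsz] at h0
      exact h.sq_ne h0
    · rcases Int.even_or_odd e with ⟨f, rfl⟩ | ⟨f, rfl⟩
      · exfalso
        rw [show 2 * (f + f) + 1 = 4 * f + 1 by ring, zpow_add, zpow_mul, hq4, one_zpow, one_mul,
          zpow_one] at hqm
        exact hT1 a ha (mul_inv_eq_iff_eq_mul.1 hqm)
      · rw [hqm, show 2 * (2 * f + 1) + 1 = 4 * (f + 1) + -1 by ring, zpow_add, zpow_mul, hq4,
          one_zpow, one_mul, zpow_neg_one]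
  have hcover : ∀ x, x ∉ zpowers y → u⁻¹ * x ∈ zpowers y := by
    intro x hx
    by_contra h'
    refine hT1 _ h' ?_
    show u⁻¹ * x * q = q * (u⁻¹ * x)
    have h3 : u⁻¹ * q⁻¹ * u = q := by rw [← hinvq u hu]; group
    calc u⁻¹ * x * q = u⁻¹ * (x * q * x⁻¹) * x := by group
      _ = u⁻¹ * q⁻¹ * u * u⁻¹ * x := by rw [hinvq x hx]; group
      _ = q * (u⁻¹ * x) := by rw [h3, mul_assoc]
  obtain ⟨m, hm⟩ := hN.conj_mem y (mem_zpowers y) u
  simp only at hm
  have hmm : y ^ (m * m) = y := by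
    rw [zpow_mul, hm, conj_zpow, hm, show u * (u * y * u⁻¹) * u⁻¹ = u ^ 2 * y * (u ^ 2)⁻¹ by
      rw [sq]; group, hu2]
    group
  obtain ⟨-, -, h3⟩ := involutive_exponent hy hn hmm
  have hm4 : ¬ (4 : ℤ) ∣ m - 1 := by
    rintro ⟨d, hd⟩
    refine hT1 u hu (mul_inv_eq_iff_eq_mul.1 ?_)
    have hqm : u * q * u⁻¹ = q ^ m := by
      rw [hq, ← zpow_natCast y, ← zpow_mul, mul_comm, zpow_mul, hm]
      simp only [zpow_natCast, conj_pow]
    rw [hqm, show m = 4 * d + 1 by omega, zpow_add, zpow_mul, hq4, one_zpow,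
      one_mul, zpow_one]
  have hact : u * y * u⁻¹ = y⁻¹ ∨ u * y * u⁻¹ = y⁻¹ * y ^ 2 ^ (n - 1) := hm ▸ h3 hm4
  rcases Nat.lt_or_ge 2 n with hn3 | hn2
  · have d : CyclicTwo φ y u n := ⟨hy, hn3, hI y (mem_zpowers y), hu, hu2, hcover, hact⟩
    by_cases hsY : s ∈ zpowers y
    · exact (d.notmem_of_fixFour hT h hsY).elim
    · exact Or.inr (Or.inr ⟨y, u, n, d, hsY⟩)
  -- `T` is dihedral of order eight
  obtain rfl : n = 2 := by omega
  have hqy : q = y := by rw [hq, show 2 - 2 = 0 from rfl, pow_zero, pow_one]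
  have hyinv : u * y * u⁻¹ = y⁻¹ := by rw [← hqy]; exact hinvq u hu
  have hy2 : y ^ 2 = s ^ 2 := by rw [hsz, ← hqz, hqy]
  have hsY : s ∈ zpowers y := by
    by_contra hsY
    obtain ⟨i, hi⟩ := hcover s hsY
    simp only at hi
    refine h.sq_ne ?_
    rw [show s = u * y ^ i by rw [hi, mul_inv_cancel_left], sq,
      show u * y ^ i * (u * y ^ i) = (u * y * u⁻¹) ^ i * (u ^ 2 * y ^ i) by
        rw [conj_zpow, sq]; group, hyinv, hu2, one_mul, inv_zpow, inv_mul_cancel]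
  have hφy : φ y = y := by
    obtain ⟨i, hi⟩ := hsY
    simp only at hi
    rcases Int.even_or_odd i with ⟨e, rfl⟩ | ⟨e, rfl⟩
    · exfalso
      refine h.sq_ne ?_
      rw [← hi, ← zpow_natCast, ← zpow_mul, show (e + e) * ((2 : ℕ) : ℤ) = 4 * e by push_cast; ring,
        ← hqy, zpow_mul, hq4, one_zpow]
    · have hy' : y = s * ((s ^ 2) ^ e)⁻¹ := by
        rw [← hy2, ← hi, ← zpow_natCast y 2, ← zpow_mul]
        group
      rw [hy', map_mul, map_inv, map_zpow, h.map_z, h.map_s]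
  right; left
  have hu1 : u ≠ 1 := fun h' => hu (h' ▸ one_mem _)
  have huz : u ≠ s ^ 2 := fun h' => hu (h' ▸ hzY)
  have hφu : φ u ∉ zpowers y := fun h' => hu (by have := hI _ h'; rwa [h.invol] at this)
  obtain ⟨i, hi⟩ := hcover _ hφu
  simp only at hi
  have hφu' : φ u = u * y ^ i := by rw [hi, mul_inv_cancel_left]
  have hfixi : y ^ i * y ^ i = 1 := by
    have := h.invol u
    rwa [hφu', map_mul, hφu', map_zpow, hφy, mul_assoc, mul_eq_left] at this
  refine ⟨u, hu2, hu1, huz, ?_, fun g => ?_⟩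
  · rcases hinv _ (zpow_mem (mem_zpowers y) i) (by rw [sq]; exact hfixi) with h' | h' <;>
      rw [h'] at hφu'
    · rw [mul_one] at hφu'
      rcases h.fix_sq hφu' hu2 with h'' | h''
      exacts [absurd h'' hu1, absurd h'' huz]
    · rw [hsz]; exact hφu'
  · have hyu : y * u * y⁻¹ = u * s ^ 2 := by
      have : u⁻¹ * y * u = y⁻¹ := by rw [hui] at hyinv ⊢; exact hyinv
      calc y * u * y⁻¹ = u * (u⁻¹ * y * u) * y⁻¹ := by group
        _ = u * (y ^ 2)⁻¹ := by rw [this, sq]; group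
        _ = u * s ^ 2 := by
          rw [hy2, inv_eq_of_mul_eq_one_right (by rw [← sq]; exact h.z_sq)]
    have hpow : ∀ k : ℤ, y ^ k * u * (y ^ k)⁻¹ = u ∨ y ^ k * u * (y ^ k)⁻¹ = u * s ^ 2 := by
      intro k
      rcases Int.even_or_odd k with ⟨e, rfl⟩ | ⟨e, rfl⟩
      · left
        rw [← two_mul, zpow_mul, zpow_two, ← sq, hy2, ((h.commute_z hT u).zpow_right e).eq.symm,
          mul_inv_cancel_right]
      · right
        rw [show y ^ (2 * e + 1) * u * (y ^ (2 * e + 1))⁻¹ = y ^ (2 * e) * (y * u * y⁻¹) * (y ^ (2 * e))⁻¹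
          by group, hyu, zpow_mul, zpow_two, ← sq, hy2,
          ← (((h.commute_z hT (u * s ^ 2)).zpow_right e)).eq, mul_inv_cancel_right]
    by_cases hg : g ∈ zpowers y
    · obtain ⟨k, rfl⟩ := hg; exact hpow k
    · obtain ⟨k, hk⟩ := hcover g hg
      simp only at hk
      rw [show g = u * y ^ k by rw [hk, mul_inv_cancel_left],
        show u * y ^ k * u * (u * y ^ k)⁻¹ = u * (y ^ k * u * (y ^ k)⁻¹) * u⁻¹ by group]
      rcases hpow k with h' | h' <;> rw [h']
      · left; group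
      · right; rw [← mul_assoc u u, ← sq u, hu2, one_mul, hui, ← (h.commute_z hT u).eq]

end CfsgLib.CyclicFourFix
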