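import Cfsg.Agent.Lib.CyclicFourFix.Basic

/-!
Two-groups with an involutory automorphism fixing exactly one nontrivial element.
-/

set_option autoImplicit false
set_option linter.style.haveILetI false
set_option linter.unusedSectionVars false

namespace CfsgLib.CyclicFourFix

open Subgroup

variable {T : Type*} [Group T]

/-- An invariant commutative subgroup with fixed points among `1, z` is cyclic or of exponent 2. -/
theorem cyclic_or_exponent_two [Finite T] (hT : IsPGroup 2 T) (φ : T ≃* T)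
    (hφ : ∀ x, φ (φ x) = x) (B : Subgroup T) (hc : ∀ a ∈ B, ∀ b ∈ B, a * b = b * a) (hB : Inv φ B)
    (z : T) (hfix : ∀ a ∈ B, φ a = a → a = 1 ∨ a = z) :
    IsCyclic B ∨ ∀ a ∈ B, a ^ 2 = 1 := by
  haveI : Fact (Nat.Prime 2) := ⟨Nat.prime_two⟩
  let _ : CommGroup B := { (inferInstance : Group B) with
    mul_comm := fun a b => Subtype.ext (hc a a.2 b b.2) }
  by_cases hu : ∀ v ∈ B, v ^ 2 = 1 → v = 1 ∨ v = z
  · left
    refine CfsgLib.TwoGroups.isCyclic_of_uniqueOrderP_comm (p := 2) (hT.to_subgroup B) ?_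
    intro a b ha hb
    have ha2 : (a : T) ^ 2 = 1 := by rw [← coe_pow, ← ha, pow_orderOf_eq_one]; rfl
    have hb2 : (b : T) ^ 2 = 1 := by rw [← coe_pow, ← hb, pow_orderOf_eq_one]; rfl
    have hne : ∀ c : B, orderOf c = 2 → (c : T) ≠ 1 := fun c hc2 h => by
      rw [orderOf_eq_one_iff.2 (Subtype.ext h : c = 1)] at hc2; exact absurd hc2 (by norm_num)
    have : a = b := Subtype.ext ((((hu a a.2 ha2).resolve_left (hne a ha))).trans
      ((hu b b.2 hb2).resolve_left (hne b hb)).symm)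
    rw [this]; exact mem_zpowers b
  push Not at hu
  obtain ⟨v, hvB, hv2, hv1, hvz⟩ := hu
  right
  by_contra! hex
  obtain ⟨a, haB, ha⟩ := hex
  obtain ⟨b, hbB, hb, hb4⟩ : ∃ b ∈ B, b ^ 2 ≠ 1 ∧ (b ^ 2) ^ 2 = 1 := by
    obtain ⟨k, hk1, hk2⟩ := exists_sq_mem hT (H := (⊥ : Subgroup T)) (x := a ^ 2) (by simpa using ha)
    rw [mem_bot] at hk1 hk2
    refine ⟨a ^ 2 ^ k, pow_mem haB _, ?_, ?_⟩
    · rwa [← pow_mul, mul_comm, pow_mul]
    · rwa [← pow_mul a (2 ^ k) 2, mul_comm, pow_mul]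
  set f := defect hc hB with hfdef
  have hfv : ∀ c : B, (c : T) ^ 2 = 1 → (f c : T) = 1 ∨ (f c : T) = z := by
    intro c hc2
    refine hfix _ (f c).2 ?_
    show φ (φ c * (c : T)⁻¹) = φ c * (c : T)⁻¹
    have h1 : (c : T)⁻¹ = c := inv_eq_of_mul_eq_one_right (by rw [← sq]; exact hc2)
    rw [map_mul, map_inv, hφ, h1, hc _ (hB c c.2) _ c.2]
    congr 1
    exact inv_eq_of_mul_eq_one_right (by rw [← sq, ← map_pow, hc2, map_one])
  have hker : ∀ c d : B, (f c : T) = (f d : T) → (c : T) = d ∨ (c : T) = z * d := by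
    intro c d h
    have h' : f (c * d⁻¹) = 1 := by
      rw [map_mul, map_inv, Subtype.ext h, mul_inv_cancel]
    rcases hfix _ (c * d⁻¹).2 (mul_inv_eq_one.1 (congrArg Subtype.val h')) with h1 | h1
    · left; exact mul_inv_eq_one.1 h1
    · right; exact mul_inv_eq_iff_eq_mul.1 h1
  set V : B := ⟨v, hvB⟩ with hV
  have hfV : (f V : T) = z := (hfv V hv2).resolve_left fun h => by
    rcases hfix v hvB (mul_inv_eq_one.1 h) with h' | h'
    exacts [hv1 h', hvz h']
  have hzB : z ∈ B := hfV ▸ (f V).2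
  have hz2 : z ^ 2 = 1 := by
    rw [← hfV, ← coe_pow, ← map_pow, show V ^ 2 = 1 from Subtype.ext hv2, map_one]; rfl
  -- an element with image `z` has order at most two
  have hkey : ∀ c : B, (f c : T) = z → (c : T) ^ 2 = 1 := by
    intro c hcz
    rcases hker c V (hcz.trans hfV.symm) with h | h
    · rw [h]; exact hv2
    · rw [h, (show Commute z (v : T) from hc z hzB v hvB).mul_pow, hz2, hv2, one_mul]
  set b' : B := ⟨b, hbB⟩ with hb'
  rcases hfv (b' ^ 2) (by simpa using hb4) with h | h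
  · -- `b ^ 2 = z`
    have hbz : b ^ 2 = z := by
      rcases hker (b' ^ 2) 1 (by rw [h, map_one]; rfl) with h' | h'
      · exact absurd (by simpa using h') hb
      · simpa using h'
    have hfb2 : (f b' : T) ^ 2 = 1 := by rw [← coe_pow, ← map_pow]; exact h
    have hfix' : φ (f b' : T) = (f b' : T) := by
      show φ (φ b * b⁻¹) = φ b * b⁻¹
      rw [map_mul, map_inv, hφ]
      have h2 : (φ b * b⁻¹)⁻¹ = φ b * b⁻¹ := inv_eq_of_mul_eq_one_right (by rw [← sq]; exact hfb2)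
      rw [mul_inv_rev, inv_inv] at h2
      exact h2
    rcases hfix _ (f b').2 hfix' with h' | h'
    · rcases hfix b hbB (mul_inv_eq_one.1 h') with h'' | h''
      · exact hb (by rw [h'', one_pow])
      · exact hb (by rw [h'', hz2])
    · exact hb (hkey b' h')
  · -- the image `c` of `b` has order four
    have hc4 : (f b' : T) ^ 2 = z := by rw [← coe_pow, ← map_pow]; exact h
    have hfc : (f (f b') : T) = z := by
      show φ (φ b * b⁻¹) * (φ b * b⁻¹)⁻¹ = z
      rw [map_mul, map_inv, hφ, mul_inv_rev, inv_inv]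
      have hcm : (φ b * b⁻¹) ^ 2 = z := hc4
      have hinv : z⁻¹ = z := inv_eq_of_mul_eq_one_right (by rw [← sq]; exact hz2)
      rw [← hinv, ← hcm, sq]
      group
    have := hkey _ hfc
    rw [hc4] at this
    have hz1 : z = 1 := by rw [← this]
    rcases hfix v hvB (mul_inv_eq_one.1 (hfV.trans hz1)) with h' | h'
    exacts [hv1 h', hvz h']

/-- A cyclic self-centralizing normal subgroup `⟨y⟩` of order `2 ^ n` and an element outside it
centralizing the elements of order four in it give an invariant normal four group. -/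
theorem exists_four_of_centralizer [Finite T] (hT : IsPGroup 2 T) (φ : T ≃* T) {y : T} {n : ℕ}
    (hy : orderOf y = 2 ^ n) (hn : 2 ≤ n) (hN : (zpowers y).Normal) (hI : Inv φ (zpowers y))
    (hself : centralizer (zpowers y : Set T) ≤ zpowers y) {x : T} (hx : x ∉ zpowers y)
    (hxq : Commute x (y ^ 2 ^ (n - 2))) :
    3 ≤ n ∧ ∃ v : T, v ∉ zpowers y ∧ v ^ 2 = 1 ∧ v * y * v⁻¹ = y * y ^ 2 ^ (n - 1) ∧
      ∀ g : T, (g * v * g⁻¹ = v ∨ g * v * g⁻¹ = v * y ^ 2 ^ (n - 1)) ∧
        (φ v = v ∨ φ v = v * y ^ 2 ^ (n - 1)) := by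
  set q := y ^ 2 ^ (n - 2) with hq
  set z := y ^ 2 ^ (n - 1) with hz
  have hqz : q ^ 2 = z := by
    rw [hq, hz, ← pow_mul, ← pow_succ]; congr 2; omega
  have hself' : ∀ g, g * y * g⁻¹ = y → g ∈ zpowers y := fun g hg => hself
    (mem_centralizer_iff.2 fun a ha => by
      obtain ⟨i, rfl⟩ := ha
      exact ((show Commute g y from mul_inv_eq_iff_eq_mul.1 hg).zpow_right i).eq.symm)
  have hxn3 : 3 ≤ n := by
    by_contra h
    refine hx (hself' x ?_)
    rw [show q = y by rw [hq, show n - 2 = 0 by omega, pow_zero, pow_one]] at hxq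
    rw [hxq.eq, mul_inv_cancel_right]
  -- the action of an element centralizing `q` with square in `⟨y⟩`
  have hact : ∀ g, g ∉ zpowers y → g ^ 2 ∈ zpowers y → Commute g q → g * y * g⁻¹ = y * z := by
    intro g hg hg2 hgq
    obtain ⟨m, hm⟩ := hN.conj_mem y (mem_zpowers y) g
    simp only at hm
    have hmm : y ^ (m * m) = y := by
      rw [zpow_mul, hm, conj_zpow, hm]
      obtain ⟨i, hi⟩ := hg2
      simp only at hi
      rw [show g * (g * y * g⁻¹) * g⁻¹ = g ^ 2 * y * (g ^ 2)⁻¹ by rw [sq]; group, ← hi]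
      group
    obtain ⟨hodd, h1, h3⟩ := involutive_exponent hy hn hmm
    have hm1 : (4 : ℤ) ∣ m - 1 := by
      have : q ^ m = q := by
        rw [hq, ← zpow_natCast y, ← zpow_mul, mul_comm, zpow_mul, hm, zpow_natCast, conj_pow,
          ← hq, hgq.eq, mul_inv_cancel_right, zpow_natCast, hq]
      rw [← zpow_one q, ← zpow_mul, one_mul, ← mul_inv_eq_one, ← zpow_sub, hq, ← zpow_natCast y,
        ← zpow_mul, zpow_eq_one_iff_dvd hy] at this
      obtain ⟨k, hk⟩ := this
      refine ⟨k, mul_left_cancel₀ (pow_ne_zero (n - 2) (two_ne_zero' ℤ)) ?_⟩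
      have h2n : (2 : ℤ) ^ n = 2 ^ (n - 2) * 4 := by
        rw [show (4 : ℤ) = 2 ^ 2 by norm_num, ← pow_add]; congr 1; omega
      push_cast at hk
      rw [hk, h2n, mul_assoc]
    rcases h1 hm1 with h | h
    · exact absurd (hself' g (hm ▸ h)) hg
    · exact hm ▸ h
  obtain ⟨g, hg, hg2, hgq⟩ : ∃ g, g ∉ zpowers y ∧ g ^ 2 ∈ zpowers y ∧ Commute g q := by
    obtain ⟨k, hk1, hk2⟩ := exists_sq_mem hT hx
    exact ⟨_, hk1, hk2, hxq.pow_left _⟩
  have hgy := hact g hg hg2 hgq
  have hzy : Commute y z := (Commute.refl y).pow_right _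
  have hz2 : z ^ 2 = 1 := by
    rw [hz, ← pow_mul, ← pow_succ, show n - 1 + 1 = n by omega, ← hy, pow_orderOf_eq_one]
  have hzpow : ∀ i : ℤ, z ^ i = y ^ ((2 : ℤ) ^ (n - 1) * i) := by
    intro i; rw [hz, ← zpow_natCast y, ← zpow_mul]; push_cast; rfl
  have hconj : ∀ w, w * y * w⁻¹ = y * z → ∀ i : ℤ, w * y ^ i * w⁻¹ = y ^ i * z ^ i := by
    intro w hw i; rw [← conj_zpow, hw, hzy.mul_zpow]
  have hsq : ∀ w, w * y * w⁻¹ = y * z → ∀ i : ℤ,
      (w * y ^ i) ^ 2 = w ^ 2 * (y ^ (2 * i) * z ^ i) := by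
    intro w hw i
    have hwz : w * z * w⁻¹ = z := by
      have := hconj w hw ((2 : ℤ) ^ (n - 1))
      rw [show y ^ ((2 : ℤ) ^ (n - 1)) = z by rw [hz, ← zpow_natCast]; push_cast; rfl] at this
      rw [this, hzpow, ← pow_add, show n - 1 + (n - 1) = n + (n - 2) by omega, pow_add]
      rw [(zpow_eq_one_iff_dvd hy _).2 ⟨2 ^ (n - 2), rfl⟩, mul_one]
    have h2 : w⁻¹ * y ^ i * w = y ^ i * z ^ i := by
      have h1 := hconj w hw i
      have hwzi : w * z ^ i * w⁻¹ = z ^ i := by rw [← conj_zpow, hwz]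
      have hh : w * (y ^ i * z ^ i) * w⁻¹ = y ^ i := by
        rw [show w * (y ^ i * z ^ i) * w⁻¹ = (w * y ^ i * w⁻¹) * (w * z ^ i * w⁻¹) by group, h1,
          hwzi, mul_assoc, ← zpow_add, ← two_mul, zpow_mul, zpow_two, ← sq, hz2, one_zpow, mul_one]
      calc w⁻¹ * y ^ i * w = w⁻¹ * (w * (y ^ i * z ^ i) * w⁻¹) * w := by rw [hh]
        _ = _ := by group
    calc (w * y ^ i) ^ 2 = w ^ 2 * ((w⁻¹ * y ^ i * w) * y ^ i) := by simp only [sq]; group
      _ = _ := by
        rw [h2, mul_assoc (y ^ i) (z ^ i), ← ((hzy.zpow_left i).zpow_right i).eq,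
          ← mul_assoc (y ^ i) (y ^ i), ← zpow_add, ← two_mul]
  obtain ⟨i, hi⟩ := hg2
  simp only at hi
  have hi2 : Even i := by
    have h1 := hconj g hgy i
    rw [hi, show g * g ^ 2 * g⁻¹ = g ^ 2 by group, left_eq_mul, hzpow,
      zpow_eq_one_iff_dvd hy] at h1
    obtain ⟨k, hk⟩ := h1
    rw [show (2 : ℤ) ^ n = 2 ^ (n - 1) * 2 by rw [← pow_succ]; congr 1; omega, mul_assoc] at hk
    exact ⟨k, by rw [mul_left_cancel₀ (pow_ne_zero _ two_ne_zero) hk]; ring⟩
  obtain ⟨j, rfl⟩ := hi2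
  have hpar : ∀ c : ℤ, Even c → z ^ c = 1 := by
    rintro c ⟨d, rfl⟩
    rw [← two_mul, zpow_mul, zpow_two, ← sq, hz2, one_zpow]
  have hpar' : ∀ c : ℤ, Odd c → z ^ c = z := by
    rintro c ⟨d, rfl⟩
    rw [zpow_add, hpar _ ⟨d, by ring⟩, one_mul, zpow_one]
  obtain ⟨c, hc⟩ : ∃ c : ℤ, (g * y ^ c) ^ 2 = 1 := by
    rcases Int.even_or_odd j with hj | hj
    · refine ⟨-j, ?_⟩
      rw [hsq g hgy, ← hi, hpar _ hj.neg, mul_one, ← zpow_add]
      rw [show j + j + 2 * -j = 0 by ring, zpow_zero]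
    · refine ⟨-j + 2 ^ (n - 2), ?_⟩
      have hev : Even ((2 : ℤ) ^ (n - 2)) := Int.even_pow.2 ⟨even_two, by omega⟩
      rw [hsq g hgy, ← hi, hpar' _ (hj.neg.add_even hev), ← mul_assoc, ← zpow_add,
        show j + j + 2 * (-j + 2 ^ (n - 2)) = ((2 ^ (n - 1) : ℕ) : ℤ) by
          push_cast; rw [show n - 1 = n - 2 + 1 by omega, pow_succ]; ring,
        zpow_natCast, ← hz, ← sq, hz2]
  set v := g * y ^ c with hv
  have hvmem : v ∉ zpowers y := fun h => hg (by
    simpa [hv] using mul_mem h (inv_mem (zpow_mem (mem_zpowers y) c)))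
  have hvy : v * y * v⁻¹ = y * z := by
    rw [hv, show g * y ^ c * y * (g * y ^ c)⁻¹ = g * (y ^ c * y * (y ^ c)⁻¹) * g⁻¹ by group,
      show y ^ c * y * (y ^ c)⁻¹ = y by group, hgy]
  have hvq : Commute v q := hgq.mul_left (by
    rw [hq]; exact ((Commute.refl y).pow_right _).zpow_left c)
  have huniq : ∀ w, w ∉ zpowers y → w ^ 2 = 1 → Commute w q → w = v ∨ w = v * z := by
    intro w hw hw2 hwq
    have hwy := hact w hw (by rw [hw2]; exact one_mem _) hwq
    obtain ⟨k, hk⟩ : v⁻¹ * w ∈ zpowers y := hself' _ (by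
      calc v⁻¹ * w * y * (v⁻¹ * w)⁻¹ = v⁻¹ * (w * y * w⁻¹) * v := by group
        _ = v⁻¹ * (v * y * v⁻¹) * v := by rw [hwy, hvy]
        _ = y := by group)
    simp only at hk
    have hwk : w = v * y ^ k := by rw [hk, mul_inv_cancel_left]
    rw [hwk, hsq v hvy, hc, one_mul, hzpow, ← zpow_add, zpow_eq_one_iff_dvd hy] at hw2
    obtain ⟨l, hl⟩ := hw2
    have hpow : (2 : ℤ) ^ n = 2 ^ (n - 1) * 2 := by rw [← pow_succ]; congr 1; omega
    have hpow' : (2 : ℤ) ^ (n - 1) = 2 ^ (n - 2) * 2 := by rw [← pow_succ]; congr 1; omega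
    have hev : Even ((2 : ℤ) ^ (n - 2)) := Int.even_pow.2 ⟨even_two, by omega⟩
    obtain ⟨e, he⟩ : Even k := by
      have h2 : k * (1 + 2 ^ (n - 2)) = 2 ^ (n - 1) * l := by
        rw [hpow] at hl
        refine mul_left_cancel₀ (two_ne_zero' ℤ) ?_
        calc 2 * (k * (1 + 2 ^ (n - 2))) = 2 * k + 2 ^ (n - 1) * k := by rw [hpow']; ring
          _ = _ := by rw [hl]; ring
      have he2 : Even (k * (1 + 2 ^ (n - 2))) := by
        rw [h2, hpow']; exact ⟨2 ^ (n - 2) * l, by ring⟩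
      rcases Int.even_mul.1 he2 with h | h
      · exact h
      · exact absurd h (by rw [Int.not_even_iff_odd]; exact (odd_one).add_even hev)
    have h4 : (y ^ k) ^ 2 = 1 := by
      rw [← zpow_natCast, ← zpow_mul, zpow_eq_one_iff_dvd hy]
      refine ⟨l - e, ?_⟩
      rw [he] at hl ⊢
      have : (2 : ℤ) ^ n * l - 2 ^ n * e = 2 * (e + e) := by rw [← hl, hpow]; ring
      push_cast
      linarith
    rcases zpow_sq_eq_one hy h4 with h | h
    · left; rw [hwk, h, mul_one]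
    · right; rw [hwk, h]
  refine ⟨hxn3, v, hvmem, hc, hvy, fun a => ⟨?_, ?_⟩⟩
  · refine huniq _ (fun h => hvmem ?_) ?_ ?_
    · simpa [mul_assoc] using hN.conj_mem _ h a⁻¹
    · rw [conj_pow, hc, mul_one, mul_inv_cancel]
    · obtain ⟨k, hk⟩ : a⁻¹ * y * a ∈ zpowers y := by
        simpa using hN.conj_mem y (mem_zpowers y) a⁻¹
      simp only at hk
      show (a * v * a⁻¹) * q = q * (a * v * a⁻¹)
      have h1 : Commute v (a⁻¹ * q * a) := by
        have : a⁻¹ * q * a = q ^ k := by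
          rw [hq, ← zpow_natCast y, ← zpow_mul, mul_comm, zpow_mul, hk, zpow_natCast]
          simp only [zpow_natCast]; rw [show a⁻¹ * y * a = a⁻¹ * y * a⁻¹⁻¹ by rw [inv_inv], conj_pow, inv_inv]
        rw [this]; exact hvq.zpow_right k
      calc a * v * a⁻¹ * q = a * (v * (a⁻¹ * q * a)) * a⁻¹ := by group
        _ = a * ((a⁻¹ * q * a) * v) * a⁻¹ := by rw [h1.eq]
        _ = _ := by group
  · refine huniq _ (fun h => hvmem ?_) (by rw [← map_pow, hc, map_one]) ?_
    · obtain ⟨k, hk⟩ := hI y (mem_zpowers y)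
      simp only at hk
      obtain ⟨i, hi'⟩ := h
      simp only at hi'
      -- `φ` maps `⟨y⟩` onto itself
      have hsurj : ∀ b ∈ zpowers y, ∃ b' ∈ zpowers y, φ b' = b := by
        intro b hb
        have hle : (zpowers y).map φ.toMonoidHom ≤ zpowers y := by
          rintro _ ⟨w, hw, rfl⟩; exact hI w hw
        have heq := Subgroup.eq_of_le_of_card_ge hle (le_of_eq
          (Nat.card_congr (Subgroup.equivMapOfInjective _ _ φ.injective).toEquiv))
        rw [← heq] at hb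
        obtain ⟨b', hb', rfl⟩ := hb
        exact ⟨b', hb', rfl⟩
      obtain ⟨b', hb', hb''⟩ := hsurj (φ v) ⟨i, hi'⟩
      rwa [φ.injective hb''] at hb'
    · obtain ⟨k, hk⟩ := hI y (mem_zpowers y)
      simp only at hk
      -- `φ q` generates the same subgroup as `q`
      have hφq : φ q = q ^ k := by
        rw [hq, map_pow, ← hk, ← zpow_natCast, ← zpow_natCast, ← zpow_mul, ← zpow_mul, mul_comm]
      have hodd : Odd k := by
        rcases Int.even_or_odd k with ⟨e, rfl⟩ | h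
        · exfalso
          have : φ z = 1 := by
            rw [hz, map_pow, ← hk, ← zpow_natCast, ← zpow_mul, zpow_eq_one_iff_dvd hy]
            refine ⟨e, ?_⟩
            push_cast
            rw [show (2 : ℤ) ^ n = 2 ^ (n - 1) * 2 by rw [← pow_succ]; congr 1; omega]; ring
          rw [← map_one φ] at this
          have h1 := orderOf_dvd_of_pow_eq_one (φ.injective this)
          rw [hy, Nat.pow_dvd_pow_iff_le_right one_lt_two] at h1
          omega
        · exact h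
      have hz' : φ q = q ∨ φ q = q⁻¹ := by
        rw [hφq]
        obtain ⟨e, rfl⟩ := hodd
        have h4 : q ^ (4 : ℤ) = 1 := by
          rw [show (4 : ℤ) = ((2 * 2 : ℕ) : ℤ) by norm_num, zpow_natCast, pow_mul, hqz, hz2]
        rcases Int.even_or_odd e with ⟨f, rfl⟩ | ⟨f, rfl⟩
        · left
          rw [show 2 * (f + f) + 1 = 4 * f + 1 by ring, zpow_add, zpow_mul, h4, one_zpow, one_mul,
            zpow_one]
        · right
          rw [show 2 * (2 * f + 1) + 1 = 4 * (f + 1) + -1 by ring, zpow_add, zpow_mul, h4, one_zpow,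
            one_mul, zpow_neg_one]
      have h := (hvq.map φ.toMonoidHom)
      simp only [MulEquiv.coe_toMonoidHom] at h
      rcases hz' with h' | h' <;> rw [h'] at h
      · exact h
      · exact Commute.inv_right_iff.1 h

/-- The shape of a 2-group with a cyclic self-centralizing invariant normal subgroup when the
automorphism fixes only `1` and `ζ`. -/
theorem structure_core [Finite T] (hT : IsPGroup 2 T) (φ : T ≃* T) (hφ : ∀ x, φ (φ x) = x) {ζ : T}
    (hζ1 : ζ ≠ 1) (hfix : ∀ x, φ x = x → x = 1 ∨ x = ζ) (hζc : ∀ g : T, Commute g ζ) {y : T}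
    (hN : (zpowers y).Normal) (hI : Inv φ (zpowers y)) (hζy : ζ ∈ zpowers y)
    (hself : centralizer (zpowers y : Set T) ≤ zpowers y) :
    (∀ x, x ∈ zpowers y) ∨ ∃ g, g ∉ zpowers y ∧ (∀ x, x ∉ zpowers y → g⁻¹ * x ∈ zpowers y) ∧
      g * y * g⁻¹ = y⁻¹ ∧ (g ^ 2 = 1 ∨ g ^ 2 = ζ) ∧ ∃ b : ℤ, Odd b ∧ φ g = g * y ^ b := by
  by_cases htop : ∀ x, x ∈ zpowers y
  · exact Or.inl htop
  right
  push Not at htop
  obtain ⟨n, hy⟩ := IsPGroup.iff_orderOf.1 hT y
  set z := y ^ 2 ^ (n - 1) with hz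
  have hinv : ∀ b : ℤ, (y ^ b) ^ 2 = 1 → y ^ b = 1 ∨ y ^ b = z := fun b h => zpow_sq_eq_one hy h
  have hζ2 : ζ ^ 2 = 1 := by
    obtain ⟨k, hk1, hk2⟩ := exists_sq_mem hT (H := (⊥ : Subgroup T)) (x := ζ) (by simpa using hζ1)
    rw [mem_bot] at hk1 hk2
    have hfx : φ ζ = ζ := by
      obtain ⟨x, _, hx1, hx⟩ := exists_fixed hT φ hφ (⊤ : Subgroup T) (fun _ _ => mem_top _)
        (fun h => hζ1 (by have : ζ ∈ (⊤ : Subgroup T) := mem_top _; rw [h, mem_bot] at this; exact this))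
      rwa [← (hfix x hx).resolve_left hx1]
    rcases hfix (ζ ^ 2 ^ k) (by rw [map_pow, hfx]) with h | h
    · exact absurd h hk1
    · rw [← h]; exact hk2
  have hζz : ζ = z := by
    obtain ⟨i, hi⟩ := hζy
    simp only at hi
    rw [← hi] at hζ1 hζ2 ⊢
    exact (hinv i hζ2).resolve_left hζ1
  have hn : 2 ≤ n := by
    by_contra h
    obtain ⟨x, hx⟩ := htop
    refine hx (hself (mem_centralizer_iff.2 fun a ha => ?_))
    obtain ⟨i, rfl⟩ := ha
    have hyz : y = ζ := by
      rw [hζz, hz, show n - 1 = 0 by omega, pow_zero, pow_one]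
    simp only [hyz]
    exact ((hζc x).zpow_right i).eq.symm
  set q := y ^ 2 ^ (n - 2) with hq
  have hqz : q ^ 2 = z := by rw [hq, hz, ← pow_mul, ← pow_succ]; congr 2; omega
  have hq1 : q ≠ 1 := fun h => hζ1 (by rw [hζz, ← hqz, h, one_pow])
  have hqz' : q ≠ z := fun h => hq1 (by
    have h' : q ^ 2 = q := by rw [hqz, h]
    rwa [sq, mul_eq_left] at h')
  have hT1 : ∀ x, x ∉ zpowers y → ¬ Commute x q := by
    intro x hx hxq
    obtain ⟨hn3, v, hv, hv2, hvy, hall⟩ := exists_four_of_centralizer hT φ hy hn hN hI hself hx hxq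
    rw [← hz] at hvy
    have hall' : ∀ g : T, (g * v * g⁻¹ = v ∨ g * v * g⁻¹ = v * z) ∧ (φ v = v ∨ φ v = v * z) := hall
    have hy2z : z ∈ zpowers (y ^ 2) := ⟨(2 ^ (n - 2) : ℕ), by
      simp only [zpow_natCast]; rw [hz, ← pow_mul, ← pow_succ']; congr 2; omega⟩
    set B := zpowers (y ^ 2) ⊔ zpowers v with hB
    have hvy2 : Commute v (y ^ 2) := by
      show v * y ^ 2 = y ^ 2 * v
      rw [← mul_inv_eq_iff_eq_mul, ← conj_pow, hvy, ((Commute.refl y).pow_right _).mul_pow, ← hz, ← hζz,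
        hζ2, mul_one]
    have hgen : ∀ c, Commute c (y ^ 2) → Commute c v → ∀ a ∈ B, Commute c a := by
      intro c h1 h2 a ha
      have hle : B ≤ centralizer {c} := sup_le
        (zpowers_le.2 (mem_centralizer_singleton_iff.2 h1.eq.symm))
        (zpowers_le.2 (mem_centralizer_singleton_iff.2 h2.eq.symm))
      exact (mem_centralizer_singleton_iff.1 (hle ha)).symm
    have hcomm : ∀ a ∈ B, ∀ b ∈ B, a * b = b * a := fun a ha b hb =>
      (hgen a (hgen _ (Commute.refl _) hvy2.symm a ha).symm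
        (hgen _ hvy2 (Commute.refl _) a ha).symm b hb).eq
    have hBI : Inv φ B := by
      have h' : B ≤ B.comap φ.toMonoidHom := by
        refine sup_le (zpowers_le.2 ?_) (zpowers_le.2 ?_)
        · show φ (y ^ 2) ∈ B
          obtain ⟨k, hk⟩ := hI y (mem_zpowers y)
          simp only at hk
          refine le_sup_left (α := Subgroup T) ⟨k, ?_⟩
          simp only
          rw [map_pow, ← hk, ← zpow_natCast, ← zpow_natCast, ← zpow_mul, ← zpow_mul, mul_comm]
        · show φ v ∈ B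
          rcases (hall' 1).2 with h | h <;> rw [h]
          · exact le_sup_right (α := Subgroup T) (mem_zpowers v)
          · exact mul_mem (le_sup_right (α := Subgroup T) (mem_zpowers v))
              (le_sup_left (α := Subgroup T) hy2z)
      exact fun a ha => h' ha
    have hvB : v ∈ B := le_sup_right (α := Subgroup T) (mem_zpowers v)
    have hyB : y ^ 2 ∈ B := le_sup_left (α := Subgroup T) (mem_zpowers _)
    rcases cyclic_or_exponent_two hT φ hφ B hcomm hBI ζ (fun a _ ha => hfix a ha) with hc | h2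
    · obtain ⟨c, hc⟩ := (Subgroup.isCyclic_iff_exists_zpowers_eq_top B).1 hc
      obtain ⟨m, hm⟩ := IsPGroup.iff_orderOf.1 hT c
      have hc' : ∀ a ∈ B, a ∈ zpowers c := fun a ha => by rw [hc]; exact ha
      obtain ⟨i, hi⟩ := hc' v hvB
      obtain ⟨j, hj⟩ := hc' z ((le_sup_left : zpowers (y ^ 2) ≤ B) hy2z)
      simp only at hi hj
      have hv1 : v ≠ 1 := fun h => hv (h ▸ one_mem _)
      have e1 := (zpow_sq_eq_one hm (i := i) (by rw [hi]; exact hv2)).resolve_left (by rw [hi]; exact hv1)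
      have e2 := (zpow_sq_eq_one hm (i := j) (by rw [hj, ← hζz]; exact hζ2)).resolve_left
        (by rw [hj, ← hζz]; exact hζ1)
      refine hv ?_
      rw [← hi, e1, ← e2, hj, ← hζz]
      exact hζy
    · have h4 : y ^ 4 = 1 := by rw [show 4 = 2 * 2 from rfl, pow_mul]; exact h2 _ hyB
      have := orderOf_dvd_of_pow_eq_one h4
      rw [hy, show 4 = 2 ^ 2 from rfl, Nat.pow_dvd_pow_iff_le_right one_lt_two] at this
      omega
  obtain ⟨g, hg⟩ := htop
  have hcos : ∀ a c, a ∉ zpowers y → c ∉ zpowers y → a * q * a⁻¹ = q⁻¹ →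
      c * q * c⁻¹ = q⁻¹ → a⁻¹ * c ∈ zpowers y := by
    intro a c ha hc h1 h2
    by_contra h
    refine hT1 _ h ?_
    show a⁻¹ * c * q = q * (a⁻¹ * c)
    have h3 : a⁻¹ * q⁻¹ * a = q := by rw [← h1]; group
    calc a⁻¹ * c * q = a⁻¹ * (c * q * c⁻¹) * c := by group
      _ = a⁻¹ * q⁻¹ * a * a⁻¹ * c := by rw [h2]; group
      _ = q * (a⁻¹ * c) := by rw [h3, mul_assoc]
  have hqord : ∀ m : ℤ, Odd m → q ^ m = q ∨ q ^ m = q⁻¹ := by
    rintro m ⟨e, rfl⟩
    have h4 : q ^ (4 : ℤ) = 1 := by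
      rw [show (4 : ℤ) = ((2 * 2 : ℕ) : ℤ) by norm_num, zpow_natCast, pow_mul, hqz, ← hζz, hζ2]
    rcases Int.even_or_odd e with ⟨f, rfl⟩ | ⟨f, rfl⟩
    · left
      rw [show 2 * (f + f) + 1 = 4 * f + 1 by ring, zpow_add, zpow_mul, h4, one_zpow, one_mul,
        zpow_one]
    · right
      rw [show 2 * (2 * f + 1) + 1 = 4 * (f + 1) + -1 by ring, zpow_add, zpow_mul, h4, one_zpow,
        one_mul, zpow_neg_one]
  have hpowq : ∀ m : ℤ, (y ^ m) ^ 2 ^ (n - 2) = q ^ m := fun m => by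
    rw [hq, ← zpow_natCast, ← zpow_natCast, ← zpow_mul, ← zpow_mul, mul_comm]
  have hinvq : ∀ a, a ∉ zpowers y → a * q * a⁻¹ = q⁻¹ := by
    intro a ha
    obtain ⟨m, hm⟩ := hN.conj_mem y (mem_zpowers y) a
    simp only at hm
    have hqm : a * q * a⁻¹ = q ^ m := by rw [← hpowq, hm, conj_pow]
    have hodd : Odd m := by
      rcases Int.even_or_odd m with ⟨e, rfl⟩ | h
      · exfalso
        have h0 : (a * q * a⁻¹) ^ 2 = 1 := by
          rw [hqm, ← zpow_natCast, ← zpow_mul, show (e + e) * ((2 : ℕ) : ℤ) = 4 * e by push_cast; ring,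
            zpow_mul, show (4 : ℤ) = ((2 * 2 : ℕ) : ℤ) by norm_num, zpow_natCast, pow_mul, hqz,
            ← hζz, hζ2, one_zpow]
        rw [conj_pow, hqz, conj_eq_one_iff] at h0
        exact hζ1 (hζz.trans h0)
      · exact h
    rcases hqord m hodd with h | h
    · exact absurd (mul_inv_eq_iff_eq_mul.1 (hqm.trans h)) (hT1 a ha)
    · exact hqm.trans h
  have hcos' : ∀ x, x ∉ zpowers y → g⁻¹ * x ∈ zpowers y := fun x hx =>
    hcos g x hg hx (hinvq g hg) (hinvq x hx)
  -- the action of `φ`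
  obtain ⟨k, hk⟩ := hI y (mem_zpowers y)
  simp only at hk
  have hφq : φ q = q ^ k := by rw [← hpowq, hk, hq, map_pow]
  have hk4 : ∃ o : ℤ, k - 1 = 2 * o ∧ Odd o := by
    rcases Int.even_or_odd k with ⟨e, rfl⟩ | ⟨e, rfl⟩
    · exfalso
      have h0 : φ (q ^ 2) = 1 := by
        rw [map_pow, hφq, ← zpow_natCast, ← zpow_mul,
          show (e + e) * ((2 : ℕ) : ℤ) = 4 * e by push_cast; ring,
          zpow_mul, show (4 : ℤ) = ((2 * 2 : ℕ) : ℤ) by norm_num, zpow_natCast, pow_mul, hqz,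
          ← hζz, hζ2, one_zpow]
      rw [← map_one φ] at h0
      exact hζ1 (by rw [hζz, ← hqz]; exact φ.injective h0)
    · refine ⟨e, by ring, ?_⟩
      rcases Int.even_or_odd e with ⟨f, rfl⟩ | h
      · exfalso
        have h0 : φ q = q := by
          rw [hφq, show 2 * (f + f) + 1 = 4 * f + 1 by ring, zpow_add, zpow_mul,
            show (4 : ℤ) = ((2 * 2 : ℕ) : ℤ) by norm_num, zpow_natCast, pow_mul, hqz, ← hζz, hζ2,
            one_zpow, one_mul, zpow_one]
        rcases hfix q h0 with h | h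
        exacts [hq1 h, hqz' (h.trans hζz)]
      · exact h
  obtain ⟨o, hko, ho⟩ := hk4
  have hφg : φ g ∉ zpowers y := fun h => hg (by
    have := hI _ h
    rwa [hφ] at this)
  obtain ⟨b, hb⟩ := hcos' _ hφg
  simp only at hb
  have hφgb : φ g = g * y ^ b := by rw [hb, mul_inv_cancel_left]
  have hbodd : Odd b := by
    rcases Int.even_or_odd b with ⟨c, rfl⟩ | h
    · exfalso
      have hcop : IsCoprime o ((2 : ℤ) ^ n) := by
        obtain ⟨l, rfl⟩ := ho
        exact IsCoprime.pow_right ⟨1, -l, by ring⟩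
      obtain ⟨u, w, huw⟩ := hcop
      have h0 : φ (g * y ^ (-(c * u))) = g * y ^ (-(c * u)) := by
        rw [map_mul, map_zpow, hφgb, ← hk, ← zpow_mul, mul_assoc, ← zpow_add, mul_right_inj,
          ← mul_inv_eq_one, ← zpow_neg, ← zpow_add, zpow_eq_one_iff_dvd hy]
        exact ⟨2 * c * w, by linear_combination (-(c * u)) * hko - (2 * c) * huw⟩
      apply hg
      rcases hfix _ h0 with h | h
      · rw [mul_eq_one_iff_eq_inv.1 h]; exact inv_mem (zpow_mem (mem_zpowers y) _)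
      · rw [eq_mul_inv_of_mul_eq h]; exact mul_mem hζy (inv_mem (zpow_mem (mem_zpowers y) _))
    · exact h
  obtain ⟨i, hi⟩ : g ^ 2 ∈ zpowers y := by
    by_contra h
    refine hT1 _ h ?_
    show g ^ 2 * q = q * g ^ 2
    have h1 : g * (g * q * g⁻¹) * g⁻¹ = q := by
      rw [hinvq g hg, ← conj_inv, hinvq g hg, inv_inv]
    rw [← mul_inv_eq_iff_eq_mul]
    simp only [sq, mul_inv_rev]
    calc g * g * q * (g⁻¹ * g⁻¹) = g * (g * q * g⁻¹) * g⁻¹ := by group
      _ = q := h1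
  simp only at hi
  obtain ⟨m, hm⟩ := hN.conj_mem y (mem_zpowers y) g
  simp only at hm
  have hmm : y ^ (m * m) = y := by
    rw [zpow_mul, hm, conj_zpow, hm, show g * (g * y * g⁻¹) * g⁻¹ = g ^ 2 * y * (g ^ 2)⁻¹ by
      rw [sq]; group, ← hi]
    group
  obtain ⟨-, -, h3⟩ := involutive_exponent hy hn hmm
  have hm4 : ¬ (4 : ℤ) ∣ m - 1 := by
    rintro ⟨d, hd⟩
    refine hT1 g hg (mul_inv_eq_iff_eq_mul.1 ?_)
    rw [show g * q * g⁻¹ = q ^ m by rw [← hpowq, hm, conj_pow], show m = 4 * d + 1 by omega,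
      zpow_add, zpow_mul, show (4 : ℤ) = ((2 * 2 : ℕ) : ℤ) by norm_num, zpow_natCast, pow_mul,
      hqz, ← hζz, hζ2, one_zpow, one_mul, zpow_one]
  have hgi : g * y ^ i * g⁻¹ = y ^ i := by rw [hi]; group
  refine ⟨g, hg, hcos', ?_⟩
  rcases h3 hm4 with h | h
  · have hgy : g * y * g⁻¹ = y⁻¹ := hm ▸ h
    refine ⟨hgy, ?_, b, hbodd, hφgb⟩
    have h1 : (y ^ i) ^ 2 = 1 := by
      have := hgi
      rw [← conj_zpow, hgy, inv_zpow] at this
      rw [sq]; nth_rw 1 [← this]; exact inv_mul_cancel _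
    rw [← hi, hζz]
    exact hinv i h1
  · exfalso
    rw [← hz] at h
    have hgy : g * y * g⁻¹ = y⁻¹ * z := hm ▸ h
    have hn3 : 3 ≤ n := by
      by_contra h'
      have hqy : q = y := by rw [hq, show n - 2 = 0 by omega, pow_zero, pow_one]
      refine hT1 g hg (mul_inv_eq_iff_eq_mul.1 ?_)
      rw [hqy, hgy, ← hqz, hqy, sq, inv_mul_cancel_left]
    have hyz : Commute y z := (Commute.refl y).pow_right _
    have hgi' : (y ^ i) ^ 2 = z ^ i := by
      have := hgi
      rw [← conj_zpow, hgy, hyz.inv_left.mul_zpow, inv_zpow] at this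
      rw [sq]; nth_rw 2 [← this]; rw [mul_inv_cancel_left]
    have hz2 : z ^ 2 = 1 := hζz ▸ hζ2
    have hzev : ∀ c : ℤ, Even c → z ^ c = 1 := by
      rintro c ⟨d, rfl⟩; rw [← two_mul, zpow_mul, zpow_two, ← sq, hz2, one_zpow]
    have hieven : Even i := by
      rcases Int.even_or_odd i with h' | ⟨d, rfl⟩
      · exact h'
      · exfalso
        rw [show z ^ (2 * d + 1) = z by rw [zpow_add, hzev _ ⟨d, by ring⟩, one_mul, zpow_one], hz,
          ← zpow_natCast y, ← zpow_natCast, ← zpow_mul, ← mul_inv_eq_one, ← zpow_neg, ← zpow_add,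
          zpow_eq_one_iff_dvd hy] at hgi'
        have hd2 : (4 : ℤ) ∣ 2 ^ (n - 1) := ⟨2 ^ (n - 3), by
          rw [show (4 : ℤ) = 2 ^ 2 by norm_num, ← pow_add]; congr 1; omega⟩
        have hd1 : (4 : ℤ) ∣ 2 ^ n := hd2.trans (pow_dvd_pow 2 (by omega))
        have := hd1.trans hgi'
        push_cast at this
        omega
    have hfg : φ (g ^ 2) = g ^ 2 := by
      rcases hinv i (by rw [hgi', hzev i hieven]) with h' | h' <;> rw [← hi, h']
      · exact map_one φ
      · rw [← hζz]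
        obtain ⟨x, hx, hx1, hxf⟩ := exists_fixed hT φ hφ _ hI
          (fun h0 => by rw [h0, mem_bot] at hζy; exact hζ1 hζy)
        rwa [← (hfix x hxf).resolve_left hx1]
    rw [map_pow, hφgb] at hfg
    have h1 : g⁻¹ * y * g = y⁻¹ * z := by
      have hgz : g * z * g⁻¹ = z := by
        rw [← hζz]; exact mul_inv_eq_iff_eq_mul.2 (hζc g).eq
      have hh : g * (y⁻¹ * z) * g⁻¹ = y := by
        rw [show g * (y⁻¹ * z) * g⁻¹ = (g * y * g⁻¹)⁻¹ * (g * z * g⁻¹) by group, hgy, hgz,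
          mul_inv_rev, inv_inv, mul_assoc, hyz.eq, inv_mul_cancel_left]
      calc g⁻¹ * y * g = g⁻¹ * (g * (y⁻¹ * z) * g⁻¹) * g := by rw [hh]
        _ = _ := by group
    have h2 : (g * y ^ b) ^ 2 = g ^ 2 * ((g⁻¹ * y * g) ^ b * y ^ b) := by
      have e : (g⁻¹ * y * g) ^ b = g⁻¹ * y ^ b * g := by
        simpa using conj_zpow (i := b) (a := g⁻¹) (b := y)
      rw [e]; simp only [sq]; group
    rw [h2, mul_eq_left, h1, hyz.inv_left.mul_zpow, inv_zpow, mul_assoc,
      ((hyz.zpow_left b).zpow_right b).eq.symm, inv_mul_cancel_left] at hfg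
    obtain ⟨d, rfl⟩ := hbodd
    rw [zpow_add, hzev _ ⟨d, by ring⟩, one_mul, zpow_one] at hfg
    exact hζ1 (hζz.trans hfg)

/-- A 2-group with an involutory automorphism fixing just `1` and `ζ` is cyclic, or an inverted
cyclic subgroup of index two and an element moved by an odd power generate it. -/
theorem structure_of_fix_two [Finite T] (hT : IsPGroup 2 T) (φ : T ≃* T) (hφ : ∀ x, φ (φ x) = x)
    {ζ : T} (hζ1 : ζ ≠ 1) (hfix : ∀ x, φ x = x → x = 1 ∨ x = ζ) :
    (∀ g : T, Commute g ζ) ∧ φ ζ = ζ ∧ ζ ^ 2 = 1 ∧ ∃ y : T, ζ ∈ zpowers y ∧ φ y ∈ zpowers y ∧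
      ((∀ x, x ∈ zpowers y) ∨ ∃ g, g ∉ zpowers y ∧ (∀ x, x ∉ zpowers y → g⁻¹ * x ∈ zpowers y) ∧
        g * y * g⁻¹ = y⁻¹ ∧ (g ^ 2 = 1 ∨ g ^ 2 = ζ) ∧ ∃ b : ℤ, Odd b ∧ φ g = g * y ^ b) := by
  haveI : Nontrivial T := ⟨⟨ζ, 1, hζ1⟩⟩
  have hcen : Inv φ (center T) := fun c hc => mem_center_iff.2 fun g => by
    have := congrArg φ (mem_center_iff.1 hc (φ g))
    rwa [map_mul, map_mul, hφ] at this
  obtain ⟨x, hxc, hx1, hxf⟩ := exists_fixed hT φ hφ _ hcen hT.bot_lt_center.ne'
  obtain rfl : x = ζ := (hfix x hxf).resolve_left hx1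
  have hζc : ∀ g : T, Commute g x := fun g => mem_center_iff.1 hxc g
  have hζ2 : x ^ 2 = 1 := by
    obtain ⟨k, hk1, hk2⟩ := exists_sq_mem hT (H := (⊥ : Subgroup T)) (x := x) (by simpa using hx1)
    rw [mem_bot] at hk1 hk2
    rcases hfix (x ^ 2 ^ k) (by rw [map_pow, hxf]) with h | h
    · exact absurd h hk1
    · rw [← h]; exact hk2
  refine ⟨hζc, hxf, hζ2, ?_⟩
  obtain ⟨Y, hN, hI, hc, hself⟩ := exists_selfCentralizing hT φ hφ
  have hxY : x ∈ Y := hself (mem_centralizer_iff.2 fun a _ => (hζc a).eq)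
  rcases cyclic_or_exponent_two hT φ hφ Y hc hI x (fun a _ ha => hfix a ha) with hcyc | h2
  · obtain ⟨y, rfl⟩ := (Subgroup.isCyclic_iff_exists_zpowers_eq_top Y).1 hcyc
    exact ⟨y, hxY, hI y (mem_zpowers y), structure_core hT φ hφ hx1 hfix hζc hN hI hxY hself⟩
  -- `Y` is elementary abelian
  have hzp : ∀ a, a ∈ zpowers x → a = 1 ∨ a = x := by
    rintro a ⟨i, rfl⟩
    rcases Int.even_or_odd i with ⟨d, rfl⟩ | ⟨d, rfl⟩
    · left; simp only; rw [← two_mul, zpow_mul, zpow_two, ← sq, hζ2, one_zpow]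
    · right; simp only; rw [zpow_add, zpow_mul, zpow_two, ← sq, hζ2, one_zpow, one_mul, zpow_one]
  by_cases hYx : Y ≤ zpowers x
  · have hall : ∀ a, a ∈ zpowers x := fun a => hYx (hself (mem_centralizer_iff.2 fun c hc' => by
      rcases hzp c (hYx hc') with rfl | rfl
      · simp
      · exact (hζc a).eq.symm))
    exact ⟨x, mem_zpowers x, hall _, Or.inl hall⟩
  obtain ⟨v, hvY, hv⟩ := not_forall₂.1 (fun h => hYx h)
  have hfixY : ∀ a ∈ Y, φ a = a ∨ φ a = a * x := by
    intro a ha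
    have hd : φ a * a = 1 ∨ φ a * a = x := hfix _ (by
      rw [map_mul, hφ]; exact hc a ha _ (hI a ha))
    have hai : a⁻¹ = a := inv_eq_of_mul_eq_one_right (by rw [← sq]; exact h2 a ha)
    rcases hd with h | h
    · left; rw [eq_inv_of_mul_eq_one_left h, hai]
    · right; rw [eq_mul_inv_of_mul_eq h, hai]; exact (hc a ha x hxY).symm
  have hvfix : φ v = v * x := (hfixY v hvY).resolve_left fun h => by
    rcases hfix v h with rfl | rfl
    exacts [hv (one_mem _), hv (mem_zpowers _)]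
  have hY4 : ∀ a ∈ Y, a ∈ zpowers x ∨ v⁻¹ * a ∈ zpowers x := by
    intro a ha
    rcases hfixY a ha with h | h
    · left; rcases hfix a h with rfl | rfl
      exacts [one_mem _, mem_zpowers _]
    · right
      have h0 : φ (v⁻¹ * a) = v⁻¹ * a := by
        rw [map_mul, map_inv, hvfix, h, mul_inv_rev, mul_assoc, ← mul_assoc v⁻¹ a x,
          ← (hζc (v⁻¹ * a)).symm.eq, inv_mul_cancel_left]
      rcases hfix _ h0 with h' | h' <;> rw [h']
      exacts [one_mem _, mem_zpowers _]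
  by_cases hall : ∀ a, a ∈ Y
  · refine ⟨x, mem_zpowers x, by rw [hxf]; exact mem_zpowers x, Or.inr ⟨v, hv, fun a ha =>
      (hY4 a (hall a)).resolve_left ha, ?_, Or.inl (h2 v hvY), 1, odd_one, by rw [zpow_one, hvfix]⟩⟩
    rw [(hζc v).eq, mul_inv_cancel_right]
    exact (inv_eq_of_mul_eq_one_right (by rw [← sq]; exact hζ2)).symm
  push Not at hall
  obtain ⟨g, hg⟩ := hall
  have hact : ∀ a, a ∉ Y → a * v * a⁻¹ = v * x := by
    intro a ha
    have hm : a * v * a⁻¹ ∈ Y := hN.conj_mem v hvY a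
    have hnz : a * v * a⁻¹ ∉ zpowers x := fun h => hv (by
      rcases hzp _ h with h' | h'
      · rw [conj_eq_one_iff.1 h']; exact one_mem _
      · have : v = a⁻¹ * x * a := by rw [← h']; group
        rw [this, mul_assoc, ← (hζc a).eq, inv_mul_cancel_left]
        exact mem_zpowers x)
    rcases hzp _ ((hY4 _ hm).resolve_left hnz) with h | h
    · exfalso
      rw [inv_mul_eq_one] at h
      refine ha (hself (mem_centralizer_iff.2 fun c hc' => ?_))
      have hav : Commute a v := mul_inv_eq_iff_eq_mul.1 h.symm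
      rcases hY4 c hc' with h' | h'
      · rcases hzp c h' with rfl | rfl
        · simp
        · exact (hζc a).eq.symm
      · rcases hzp _ h' with h'' | h''
        · rw [inv_mul_eq_one] at h''; subst h''; exact hav.eq.symm
        · rw [inv_mul_eq_iff_eq_mul] at h''; subst h''; exact (hav.mul_right (hζc a)).eq.symm
    · rwa [inv_mul_eq_iff_eq_mul] at h
  have hxi : x⁻¹ = x := inv_eq_of_mul_eq_one_right (by rw [← sq]; exact hζ2)
  have hdiff : ∀ a c, a ∉ Y → c ∉ Y → a⁻¹ * c ∈ Y := by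
    intro a c ha hc'
    by_contra h
    have h1 := hact _ h
    have ha' : a⁻¹ * v * a⁻¹⁻¹ = v * x := hact _ (fun h' => ha (by simpa using inv_mem h'))
    rw [inv_inv] at ha'
    rw [show a⁻¹ * c * v * (a⁻¹ * c)⁻¹ = a⁻¹ * (c * v * c⁻¹) * a by group, hact c hc',
      show a⁻¹ * (v * x) * a = (a⁻¹ * v * a) * (a⁻¹ * x * a) by group, ha',
      mul_assoc a⁻¹ x a, ← (hζc a).eq, inv_mul_cancel_left, mul_assoc, ← sq, hζ2, mul_one,
      left_eq_mul] at h1
    exact hx1 h1
  have hg2 : g ^ 2 = 1 ∨ g ^ 2 = x := by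
    have hgY : g ^ 2 ∈ Y := by
      by_contra h
      exact hg (by simpa [sq] using hdiff g (g ^ 2) hg h)
    rcases hY4 _ hgY with h | h
    · exact hzp _ h
    · exfalso
      obtain ⟨e, he, hge⟩ : ∃ e ∈ zpowers x, g ^ 2 = v * e := ⟨_, h, (mul_inv_cancel_left v _).symm⟩
      have h1 : g * (g ^ 2) * g⁻¹ = g ^ 2 := by group
      rw [hge, show g * (v * e) * g⁻¹ = (g * v * g⁻¹) * (g * e * g⁻¹) by group, hact g hg] at h1
      have he' : g * e * g⁻¹ = e := by
        rcases hzp e he with rfl | rfl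
        · simp
        · rw [(hζc g).eq, mul_inv_cancel_right]
      rw [he', mul_assoc, mul_right_inj, mul_eq_right] at h1
      exact hx1 h1
  obtain ⟨y, hyY, hy2⟩ : ∃ y, y ∉ Y ∧ y ^ 2 = x := by
    rcases hg2 with h | h
    · refine ⟨g * v, fun h' => hg (by simpa using mul_mem h' (inv_mem hvY)), ?_⟩
      have hgi : g⁻¹ = g := inv_eq_of_mul_eq_one_right (by rw [← sq]; exact h)
      have h1 := hact g hg
      rw [hgi] at h1
      rw [sq, ← mul_assoc, h1, mul_assoc, (hζc v).symm.eq, ← mul_assoc, ← sq, h2 v hvY, one_mul]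
    · exact ⟨g, hg, h⟩
  have hyx : x ∈ zpowers y := ⟨2, by simp only; rw [zpow_two, ← sq]; exact hy2⟩
  have hyv : y * v * y⁻¹ = v * x := hact y hyY
  have hsame : ∀ a, a ∉ Y → a ^ 2 = x → a ∈ zpowers y := by
    intro a ha ha2
    obtain ⟨e, he, rfl⟩ : ∃ e ∈ Y, a = y * e := ⟨_, hdiff y a hyY ha, (mul_inv_cancel_left y a).symm⟩
    rcases hY4 e he with h | h
    · exact mul_mem (mem_zpowers y) (zpowers_le.2 hyx h)
    · exfalso
      obtain ⟨c, hc', rfl⟩ : ∃ c ∈ zpowers x, e = v * c := ⟨_, h, (mul_inv_cancel_left v e).symm⟩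
      have hcc : ∀ a, Commute a c := fun a => by
        rcases hzp c hc' with rfl | rfl
        exacts [Commute.one_right a, hζc a]
      have hc2 : c ^ 2 = 1 := by
        rcases hzp c hc' with rfl | rfl
        exacts [one_pow 2, hζ2]
      rw [← mul_assoc, (hcc _).mul_pow, hc2, mul_one] at ha2
      have e1 : (y * v) ^ 2 = y * v * y⁻¹ * (y ^ 2) * v := by simp only [sq]; group
      rw [e1, hyv, hy2, mul_assoc v x x, ← sq, hζ2, mul_one, ← sq, h2 v hvY] at ha2
      exact hx1 ha2.symm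
  have hyN : (zpowers y).Normal := by
    constructor
    rintro _ ⟨i, rfl⟩ a
    simp only
    rw [← conj_zpow]
    refine zpow_mem (hsame _ (fun h => hyY ?_) ?_) i
    · have := hN.conj_mem _ h a⁻¹
      simpa [mul_assoc] using this
    · rw [conj_pow, hy2, (hζc a).eq, mul_inv_cancel_right]
  have hyI : Inv φ (zpowers y) := inv_zpowers (hsame _ (fun h => hyY (by
    have := hI _ h; rwa [hφ] at this)) (by rw [← map_pow, hy2, hxf]))
  have hyself : centralizer (zpowers y : Set T) ≤ zpowers y := by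
    intro c hc'
    have hcy : Commute c y := (mem_centralizer_iff.1 hc' y (mem_zpowers y)).symm
    by_cases hcY : c ∈ Y
    · rcases hY4 c hcY with h | h
      · exact zpowers_le.2 hyx h
      · exfalso
        have hvy : Commute v y := by
          have h0 : Commute (v⁻¹ * c) y := by
            rcases hzp _ h with h' | h' <;> rw [h']
            exacts [Commute.one_left y, (hζc y).symm]
          simpa using (hcy.mul_left h0.inv_left)
        rw [hvy.symm.eq, mul_inv_cancel_right] at hyv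
        exact hx1 (left_eq_mul.1 hyv)
    · refine hsame c hcY ?_
      obtain ⟨e, he, rfl⟩ : ∃ e ∈ Y, c = y * e :=
        ⟨_, hdiff y c hyY hcY, (mul_inv_cancel_left y c).symm⟩
      have hey : Commute y e := by
        have h' : Commute (y⁻¹ * (y * e)) y := (Commute.refl y).inv_left.mul_left hcy
        simpa using h'.symm
      rw [hey.mul_pow, hy2, h2 e he, mul_one]
  exact ⟨y, hyx, hyI y (mem_zpowers y),
    structure_core hT φ hφ hx1 hfix hζc hyN hyI hyx hyself⟩

end CfsgLib.CyclicFourFix
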